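import Groth.Agent.DefLib.AffPres.Basic

/-!
# Linear forms on coefficients
-/

set_option autoImplicit false
set_option maxHeartbeats 1000000
set_option linter.unusedSectionVars false
set_option backward.isDefEq.respectTransparency false

universe u

open MvPolynomial IsLocalRing

noncomputable section

namespace DefLib.AffPres

variable {k B₀ : Type u} [Field k] [CommRing B₀] [Algebra k B₀] {ι σ : Type u}
  (P : Algebra.Presentation k B₀ ι σ) {A : ArtFun.Art k k}

/-- The image of a monomial in the special fibre. -/
def qm (m : ι →₀ ℕ) : B₀ := MvPolynomial.aeval P.val (MvPolynomial.monomial m (1 : k))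

lemma qm_add (m m' : ι →₀ ℕ) : qm P (m + m') = qm P m * qm P m' := by
  rw [qm, qm, qm, ← map_mul, monomial_mul, one_mul]

lemma qm_zero : qm P 0 = 1 := by
  rw [qm, show MvPolynomial.monomial (0 : ι →₀ ℕ) (1 : k) = 1 from rfl, map_one]

/-- A linear form on the coefficient ring, extended to polynomials with values in the special fibre. -/
def th (ρ : A →ₗ[k] k) : MvPolynomial ι A →ₗ[k] B₀ :=
  Finsupp.linearCombination k (qm P) ∘ₗ Finsupp.mapRange.linearMap ρ ∘ₗ
    ((MvPolynomial.basisMonomials ι A).repr.toLinearMap.restrictScalars k)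

lemma th_monomial (ρ : A →ₗ[k] k) (m : ι →₀ ℕ) (a : A) :
    th P ρ (monomial m a) = ρ a • qm P m := by
  have e : monomial m a = a • (MvPolynomial.basisMonomials ι A) m := by
    rw [MvPolynomial.coe_basisMonomials, MvPolynomial.smul_monomial, smul_eq_mul, mul_one]
  show Finsupp.linearCombination k (qm P) (Finsupp.mapRange ρ (map_zero ρ)
    ((MvPolynomial.basisMonomials ι A).repr (monomial m a))) = _
  rw [e, map_smul, Module.Basis.repr_self, Finsupp.smul_single, smul_eq_mul, mul_one, Finsupp.mapRange_single,
    Finsupp.linearCombination_single]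

lemma th_C (ρ : A →ₗ[k] k) (a : A) : th P ρ (C a) = ρ a • 1 := by
  rw [← monomial_zero', th_monomial, qm_zero]

/-- The special fibre of a polynomial. -/
abbrev qv (f : MvPolynomial ι A) : B₀ := algebraMap P.toExtension.Ring B₀ (rd P A f)

lemma qv_monomial (m : ι →₀ ℕ) (a : A) : qv P (monomial m a) = A.res a • qm P m := by
  show algebraMap P.toExtension.Ring B₀ (MvPolynomial.map A.res.toRingHom (monomial m a)) = _
  rw [map_monomial, CotT.algebraMap_toExtension, qm, ← map_smul, smul_monomial, smul_eq_mul, mul_one]
  rfl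

lemma qv_eq_th (f : MvPolynomial ι A) : qv P f = th P A.res.toLinearMap f := by
  induction f using MvPolynomial.induction_on' with
  | monomial m a => rw [qv_monomial, th_monomial]; rfl
  | add f g hf hg => rw [qv, map_add, map_add, map_add, ← hf, ← hg]

lemma th_add (ρ ρ' : A →ₗ[k] k) (f : MvPolynomial ι A) : th P (ρ + ρ') f = th P ρ f + th P ρ' f := by
  induction f using MvPolynomial.induction_on' with
  | monomial m a => rw [th_monomial, th_monomial, th_monomial, LinearMap.add_apply, add_smul]
  | add f g hf hg => rw [map_add, map_add, map_add, hf, hg]; abel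

lemma th_smul (c : k) (ρ : A →ₗ[k] k) (f : MvPolynomial ι A) : th P (c • ρ) f = c • th P ρ f := by
  induction f using MvPolynomial.induction_on' with
  | monomial m a => rw [th_monomial, th_monomial, LinearMap.smul_apply, smul_assoc]
  | add f g hf hg => rw [map_add, map_add, hf, hg, smul_add]

lemma th_map {A' : ArtFun.Art k k} (μ : A ⟶ A') (ρ : A' →ₗ[k] k) (f : MvPolynomial ι A) :
    th P ρ (MvPolynomial.map μ.toAlgHom.toRingHom f) = th P (ρ ∘ₗ μ.toAlgHom.toLinearMap) f := by
  induction f using MvPolynomial.induction_on' with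
  | monomial m a => rw [map_monomial, th_monomial, th_monomial]; rfl
  | add f g hf hg => rw [map_add, map_add, map_add, hf, hg]

lemma th_mul (ρ : A →ₗ[k] k) (hρ : ∀ a b, ρ (a * b) = A.res a * ρ b + ρ a * A.res b) (f g : MvPolynomial ι A) :
    th P ρ (f * g) = qv P f * th P ρ g + th P ρ f * qv P g := by
  induction f using MvPolynomial.induction_on' with
  | monomial m a =>
    induction g using MvPolynomial.induction_on' with
    | monomial m' b =>
      rw [monomial_mul, th_monomial, th_monomial, th_monomial, qv_monomial, qv_monomial, qm_add, hρ,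
        smul_mul_smul_comm, smul_mul_smul_comm, add_smul]
    | add g g' hg hg' =>
      simp only [qv] at hg hg' ⊢
      simp only [mul_add, map_add, hg, hg']
      ring
  | add f f' hf hf' =>
    simp only [qv] at hf hf' ⊢
    simp only [add_mul, map_add, hf, hf']
    ring

lemma th_C_mul (ρ : A →ₗ[k] k) {j : A} (hρ : ∀ b, ρ (j * b) = ρ j * A.res b) (f : MvPolynomial ι A) :
    th P ρ (C j * f) = ρ j • qv P f := by
  induction f using MvPolynomial.induction_on' with
  | monomial m a => rw [C_mul_monomial, th_monomial, qv_monomial, hρ, smul_smul]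
  | add f g hf hg =>
    simp only [qv] at hf hg ⊢
    simp only [mul_add, map_add, hf, hg, smul_add]

lemma jF_eq_zero {F : σ → MvPolynomial ι A} (hF : ∀ s, rd P A (F s) = CotT.rel P s) (s : σ) :
    qv P (F s) = 0 := by
  rw [qv, hF, CotT.algebraMap_rel]

lemma th_jF (ρ : A →ₗ[k] k) (hρ : ∀ a b, ρ (a * b) = A.res a * ρ b + ρ a * A.res b) {F : σ → MvPolynomial ι A}
    (hF : ∀ s, rd P A (F s) = CotT.rel P s) (h : σ →₀ MvPolynomial ι A) :
    th P ρ (jF F h) = Finsupp.linearCombination P.toExtension.Ring (fun s => th P ρ (F s)) (rdF P A h) := by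
  induction h using Finsupp.induction_linear with
  | zero => simp [Unobs.redF]
  | add a b ha hb => rw [map_add, map_add, ha, hb, rdF, Unobs.redF_add, map_add]
  | single s f =>
    rw [Finsupp.linearCombination_single, rdF, Unobs.redF, Finsupp.mapRange_single,
      Finsupp.linearCombination_single, smul_eq_mul, th_mul P ρ hρ, jF_eq_zero P hF, mul_zero, add_zero,
      Algebra.smul_def]

/-- Multiples `ε u` with `u` vanishing on the special fibre come from relations reducing to zero. -/
lemma exists_rel_C_mul {G : σ → MvPolynomial ι A} (hG : ∀ s, rd P A (G s) = CotT.rel P s) {ε : A}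
    (hε0 : A.res ε = 0) (hε : ∀ c, A.res c = 0 → c * ε = 0) {u : MvPolynomial ι A} (hu : qv P u = 0) :
    ∃ h, rdF P A h = 0 ∧ jF G h = C ε * u := by
  obtain ⟨v, hv⟩ : rd P A u ∈ LinearMap.range (CotT.jmap P) := by
    rw [CotT.range_jmap]
    exact hu
  obtain ⟨v, rfl⟩ := rdF_surjective P A v
  refine ⟨(C ε : MvPolynomial ι A) • v, ?_, ?_⟩
  · show Unobs.redF P A.res.toRingHom _ = 0
    rw [Unobs.redF_smul, show Unobs.red P A.res.toRingHom (C ε) = C (A.res ε) from rd_C P A ε, hε0, C_0, zero_smul]
  · have h0 := Unobs.red_eq_zero P A.res.toRingHom (x := u - jF G v) (by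
      rw [map_sub]; exact sub_eq_zero.2 (hv.symm.trans (rd_jF hG v).symm))
    have h1 : C ε * (u - jF G v) = 0 := by
      refine Submodule.smul_induction_on h0 (fun c hc y _ => ?_) (fun y z hy hz => by rw [mul_add, hy, hz, add_zero])
      rw [MvPolynomial.smul_eq_C_mul, ← mul_assoc, ← C_mul, mul_comm ε c, hε c hc, C_0, zero_mul]
    rw [mul_sub, sub_eq_zero] at h1
    rw [map_smul, smul_eq_mul, h1]

end DefLib.AffPres
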