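import Groth.Agent.DefLib.AffPres.Sch
import Groth.Agent.DefLib.AffPres.Th

/-!
# First order deformations and `T¹`
-/

set_option autoImplicit false
set_option maxHeartbeats 1000000
set_option linter.unusedSectionVars false
set_option backward.isDefEq.respectTransparency false

universe u

open CategoryTheory
open MvPolynomial IsLocalRing
open scoped TensorProduct

noncomputable section

namespace DefLib.AffPres

variable {k : Type u} [Field k] {B₀ : Type u} [CommRing B₀] [Algebra k B₀] {ι σ : Type u}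
  (P : Algebra.Presentation k B₀ ι σ)

/-- The `ε`-coordinate. -/
def sndL : ArtFun.Art.dual k k →ₗ[k] k :=
  { toFun := fun a => TrivSqZeroExt.snd (R := k) (M := k) a
    map_add' := fun _ _ => rfl
    map_smul' := fun _ _ => rfl }

lemma sndL_mul (a b : ArtFun.Art.dual k k) :
    sndL (a * b) = (ArtFun.Art.dual k k).res a * sndL b + sndL a * (ArtFun.Art.dual k k).res b := by
  show TrivSqZeroExt.snd (R := k) (M := k) (a * b) = _
  exact (TrivSqZeroExt.snd_mul (R := k) (M := k) a b).trans (by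
    simp only [smul_eq_mul, op_smul_eq_mul]
    rfl)

/-- The element `ε`. -/
def eps : ArtFun.Art.dual k k := (TrivSqZeroExt.inr (1 : k) : DualNumber k)

lemma res_eps : (ArtFun.Art.dual k k).res eps = 0 := TrivSqZeroExt.fst_inr k (1 : k)

lemma sndL_eps : sndL (k := k) eps = 1 := TrivSqZeroExt.snd_inr k _

lemma eq_eps_mul (a : ArtFun.Art.dual k k) (ha : (ArtFun.Art.dual k k).res a = 0) :
    a = eps * algebraMap k (ArtFun.Art.dual k k) (sndL a) := by
  refine TrivSqZeroExt.ext (R := k) (M := k) ?_ ?_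
  · refine (ha : TrivSqZeroExt.fst (R := k) (M := k) a = 0).trans ?_
    show (0 : k) = TrivSqZeroExt.fst (R := k) (M := k) (TrivSqZeroExt.inr 1 * TrivSqZeroExt.inl (sndL a))
    rw [TrivSqZeroExt.fst_mul, TrivSqZeroExt.fst_inr, zero_mul]
  · show sndL a = TrivSqZeroExt.snd (R := k) (M := k) (TrivSqZeroExt.inr 1 * TrivSqZeroExt.inl (sndL a))
    rw [TrivSqZeroExt.snd_mul, TrivSqZeroExt.fst_inr, TrivSqZeroExt.snd_inr, TrivSqZeroExt.fst_inl,
      TrivSqZeroExt.snd_inl, zero_smul, zero_add, op_smul_eq_mul, one_mul]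

lemma eps_kill (c : ArtFun.Art.dual k k) (hc : (ArtFun.Art.dual k k).res c = 0) : c * eps = 0 := by
  have h2 : (eps : ArtFun.Art.dual k k) * eps = 0 := TrivSqZeroExt.inr_mul_inr k (1 : k) 1
  rw [eq_eps_mul c hc, mul_right_comm, h2, zero_mul]

/-- Constant polynomials over the dual numbers. -/
abbrev incl : P.toExtension.Ring →+* MvPolynomial ι (ArtFun.Art.dual k k) :=
  MvPolynomial.map (algebraMap k (ArtFun.Art.dual k k))

lemma rd_incl (f : P.toExtension.Ring) : rd P (ArtFun.Art.dual k k) (incl P f) = f := by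
  show MvPolynomial.map _ (MvPolynomial.map _ f) = f
  rw [MvPolynomial.map_map]
  exact (congrArg (fun r => MvPolynomial.map r f) (RingHom.ext fun a => (ArtFun.Art.dual k k).res.commutes a)).trans
    (MvPolynomial.map_id f)

lemma th_incl (f : MvPolynomial ι k) : th P sndL (incl P f) = 0 := by
  show th P sndL (MvPolynomial.map (algebraMap k (ArtFun.Art.dual k k)) f) = 0
  induction f using MvPolynomial.induction_on' with
  | monomial m a =>
    rw [map_monomial, th_monomial, show sndL (algebraMap k (ArtFun.Art.dual k k) a) = 0 from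
      TrivSqZeroExt.snd_inl k a, zero_smul]
  | add f g hf hg => rw [map_add, map_add, hf, hg, add_zero]

lemma th_eps_mul (u : MvPolynomial ι (ArtFun.Art.dual k k)) : th P sndL (C eps * u) = qv P u := by
  rw [th_C_mul P sndL (fun b => by rw [sndL_mul, res_eps, zero_mul, zero_add]) u, sndL_eps, one_smul]

lemma exists_eps_mul {z : MvPolynomial ι (ArtFun.Art.dual k k)} (hz : rd P (ArtFun.Art.dual k k) z = 0) :
    ∃ u, z = C eps * u := by
  have h : z ∈ (RingHom.ker (ArtFun.Art.dual k k).res.toRingHom).map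
      (MvPolynomial.C : ArtFun.Art.dual k k →+* MvPolynomial ι (ArtFun.Art.dual k k)) := by
    rw [← MvPolynomial.ker_map]
    exact hz
  have hk : RingHom.ker (ArtFun.Art.dual k k).res.toRingHom = Ideal.span {(eps : ArtFun.Art.dual k k)} := by
    refine le_antisymm (fun a ha => ?_) ((Ideal.span_singleton_le_iff_mem _).2 res_eps)
    rw [eq_eps_mul a ha]
    exact Ideal.mul_mem_right _ _ (Ideal.mem_span_singleton_self _)
  rw [hk, Ideal.map_span, Set.image_singleton, Ideal.mem_span_singleton'] at h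
  obtain ⟨u, rfl⟩ := h
  exact ⟨u, mul_comm _ _⟩

variable {P}

lemma exists_rel_of_zero {G : σ → MvPolynomial ι (ArtFun.Art.dual k k)}
    (hG : ∀ s, rd P _ (G s) = CotT.rel P s) {z : MvPolynomial ι (ArtFun.Art.dual k k)}
    (h0 : rd P _ z = 0) (h1 : th P sndL z = 0) : ∃ h, rdF P _ h = 0 ∧ jF G h = z := by
  obtain ⟨u, rfl⟩ := exists_eps_mul P h0
  exact exists_rel_C_mul P hG res_eps eps_kill (by rwa [th_eps_mul] at h1)

variable (P)

/-- The linear form on `L₁` with given values on the relations. -/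
def lin1 (c : σ → B₀) : CotT.L1 P →ₗ[B₀] B₀ := (CotT.L1basis P).constr B₀ c

lemma lin1_one_tmul (c : σ → B₀) (u : CotT.relMod P) :
    lin1 P c ((1 : B₀) ⊗ₜ u) = Finsupp.linearCombination P.toExtension.Ring c u := by
  induction u using Finsupp.induction_linear with
  | zero => simp
  | add a b ha hb => rw [TensorProduct.tmul_add, map_add, ha, hb, map_add]
  | single s a =>
    rw [Finsupp.linearCombination_single, ← Finsupp.smul_single_one, TensorProduct.tmul_smul,
      LinearMap.map_smul_of_tower, ← CotT.L1basis_apply, lin1, Module.Basis.constr_basis]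

lemma lin1_mem_cocycles (c : σ → B₀) :
    lin1 P c ∈ LinearMap.ker (CotT.d2Star P B₀) ↔
      ∀ t : CotT.relKer P, Finsupp.linearCombination P.toExtension.Ring c t.1 = 0 := by
  rw [LinearMap.mem_ker, CotT.d2Star_apply]
  refine ⟨fun h t => ?_, fun h => ?_⟩
  · rw [← lin1_one_tmul, ← CotT.d2_mk_tmul]
    exact LinearMap.congr_fun h _
  · refine Submodule.linearMap_qext _ (TensorProduct.AlgebraTensorModule.ext fun b t => ?_)
    show lin1 P c (CotT.d2 P (Submodule.Quotient.mk (b ⊗ₜ t))) = 0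
    rw [CotT.d2_mk_tmul, ← mul_one b, ← smul_eq_mul, ← TensorProduct.smul_tmul', map_smul, lin1_one_tmul, h, smul_zero]

/-- The first order coefficients of lifted relations. -/
def cvec (F : σ → MvPolynomial ι (ArtFun.Art.dual k k)) : σ → B₀ := fun s => th P sndL (F s)

lemma lin1_cvec_mem {F : σ → MvPolynomial ι (ArtFun.Art.dual k k)} (hF : IsPres P F) :
    lin1 P (cvec P F) ∈ LinearMap.ker (CotT.d2Star P B₀) := by
  rw [lin1_mem_cocycles]
  intro t
  obtain ⟨h, h1, h2⟩ := hF.lifts t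
  rw [← h1]
  show Finsupp.linearCombination P.toExtension.Ring (fun s => th P sndL (F s)) _ = 0
  rw [← th_jF P sndL sndL_mul hF.red_eq, h2, map_zero]

/-- The class of lifted relations. -/
def cls (F : σ → MvPolynomial ι (ArtFun.Art.dual k k)) (hF : IsPres P F) : CotT.T1 P B₀ :=
  Submodule.Quotient.mk ⟨lin1 P (cvec P F), lin1_cvec_mem P hF⟩

/-- The form on `L₀` with given values on the variables. -/
def lin0 (a : ι → B₀) : CotT.L0 P →ₗ[B₀] B₀ := P.cotangentSpaceBasis.constr B₀ a

lemma th_subst (x : ι → MvPolynomial ι (ArtFun.Art.dual k k)) (hx : ∀ i, rd P _ (x i) = X i)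
    (f : MvPolynomial ι (ArtFun.Art.dual k k)) :
    rd P _ (MvPolynomial.aeval x f) = rd P _ f ∧
      th P sndL (MvPolynomial.aeval x f) = th P sndL f +
        lin0 P (fun i => th P sndL (x i)) ((1 : B₀) ⊗ₜ KaehlerDifferential.D k P.toExtension.Ring (rd P _ f)) := by
  induction f using MvPolynomial.induction_on with
  | C a =>
    refine ⟨by rw [aeval_C]; rfl, ?_⟩
    rw [aeval_C, rd_C, show (C ((ArtFun.Art.dual k k).res a) : P.toExtension.Ring) =
      algebraMap k P.toExtension.Ring ((ArtFun.Art.dual k k).res a) from rfl, Derivation.map_algebraMap,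
      TensorProduct.tmul_zero, map_zero, add_zero]
    rfl
  | add f g hf hg =>
    refine ⟨by rw [map_add, map_add, map_add, hf.1, hg.1], ?_⟩
    rw [map_add, map_add, map_add, map_add, map_add, TensorProduct.tmul_add, map_add, hf.2, hg.2]
    abel
  | mul_X f i hf =>
    have h1 : rd P (ArtFun.Art.dual k k) (X i) = X i := map_X _ i
    refine ⟨by rw [map_mul, map_mul, map_mul, aeval_X, hx, hf.1, h1], ?_⟩
    have hX : th P sndL (X i : MvPolynomial ι (ArtFun.Art.dual k k)) = 0 := by
      rw [show (X i : MvPolynomial ι (ArtFun.Art.dual k k)) = monomial (Finsupp.single i 1) 1 from rfl, th_monomial,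
        show sndL (1 : ArtFun.Art.dual k k) = (0 : k) from TrivSqZeroExt.snd_one (R := k) (M := k), zero_smul]
    rw [map_mul, aeval_X, th_mul P sndL sndL_mul, th_mul P sndL sndL_mul, hf.2, hX, mul_zero, zero_add]
    have e1 : qv P (MvPolynomial.aeval x f) = qv P f := congrArg (algebraMap P.toExtension.Ring B₀) hf.1
    have e2 : qv P (x i) = qv P (X i : MvPolynomial ι (ArtFun.Art.dual k k)) := congrArg (algebraMap P.toExtension.Ring B₀) ((hx i).trans h1.symm)
    rw [e1, e2, map_mul, h1, Derivation.leibniz, TensorProduct.tmul_add, TensorProduct.tmul_smul,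
      TensorProduct.tmul_smul, map_add, LinearMap.map_smul_of_tower, LinearMap.map_smul_of_tower,
      Algebra.smul_def, Algebra.smul_def]
    have e3 : lin0 P (fun j => th P sndL (x j)) ((1 : B₀) ⊗ₜ KaehlerDifferential.D k P.toExtension.Ring (X i)) =
        th P sndL (x i) := by
      refine (congrArg _ (Algebra.Generators.cotangentSpaceBasis_apply _ i).symm).trans ?_
      exact Module.Basis.constr_basis _ _ _ i
    rw [e3]
    simp only [qv, h1]
    ring

lemma mem_coboundaries {c c' : σ → B₀} (hc : lin1 P c ∈ LinearMap.ker (CotT.d2Star P B₀))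
    (hc' : lin1 P c' ∈ LinearMap.ker (CotT.d2Star P B₀)) :
    (Submodule.Quotient.mk ⟨_, hc⟩ : CotT.T1 P B₀) = Submodule.Quotient.mk ⟨_, hc'⟩ ↔
      ∃ ψ : CotT.L0 P →ₗ[B₀] B₀, ∀ s, c s + ψ ((1 : B₀) ⊗ₜ KaehlerDifferential.D k P.toExtension.Ring (CotT.rel P s)) =
        c' s := by
  rw [Submodule.Quotient.eq]
  have hd : ∀ (ψ : CotT.L0 P →ₗ[B₀] B₀) s, CotT.d1Star P B₀ ψ (CotT.L1basis P s) =
      ψ ((1 : B₀) ⊗ₜ KaehlerDifferential.D k P.toExtension.Ring (CotT.rel P s)) := fun ψ s => by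
    simp [CotT.d1Star_apply]
  constructor
  · rintro ⟨ψ, hψ⟩
    refine ⟨-ψ, fun s => ?_⟩
    have := LinearMap.congr_fun hψ (CotT.L1basis P s)
    simp only [Submodule.subtype_apply, Submodule.coe_sub, LinearMap.sub_apply, lin1,
      Module.Basis.constr_basis] at this
    rw [hd] at this
    rw [LinearMap.neg_apply, this]
    abel
  · rintro ⟨ψ, hψ⟩
    refine ⟨-ψ, (CotT.L1basis P).ext fun s => ?_⟩
    simp only [Submodule.subtype_apply, Submodule.coe_sub, LinearMap.sub_apply, lin1,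
      Module.Basis.constr_basis]
    rw [hd, LinearMap.neg_apply, ← hψ]
    abel

theorem cls_eq_of_algEquiv {F G : σ → MvPolynomial ι (ArtFun.Art.dual k k)} (hF : IsPres P F) (hG : IsPres P G)
    (θ : Alg F ≃ₐ[ArtFun.Art.dual k k] Alg G) (hθ : ∀ e, hG.q (θ e) = hF.q e) : cls P F hF = cls P G hG := by
  have hx : ∀ i, ∃ x, Ideal.Quotient.mk (idl G) x = θ (Ideal.Quotient.mk _ (X i)) ∧ rd P _ x = X i := fun i => by
    obtain ⟨x, hx⟩ := Ideal.Quotient.mk_surjective (θ (Ideal.Quotient.mk _ (X i)))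
    have h1 : rd P (ArtFun.Art.dual k k) x - rd P (ArtFun.Art.dual k k) (X i : MvPolynomial ι (ArtFun.Art.dual k k)) ∈ LinearMap.range (CotT.jmap P) := by
      rw [CotT.range_jmap]
      show algebraMap P.toExtension.Ring B₀ _ = 0
      rw [map_sub, ← hG.q_mk, hx, hθ, hF.q_mk, sub_self]
    obtain ⟨v, hv⟩ := h1
    obtain ⟨v, rfl⟩ := rdF_surjective P (ArtFun.Art.dual k k) v
    refine ⟨x - jF G v, ?_, ?_⟩
    · rw [map_sub, Ideal.Quotient.eq_zero_iff_mem.2 (show jF G v ∈ idl G from ⟨v, rfl⟩), sub_zero, hx]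
    · rw [map_sub, rd_jF hG.red_eq, hv, sub_sub_cancel]
      exact map_X _ i
  choose x hx1 hx2 using hx
  have hcomm : ∀ f, Ideal.Quotient.mk (idl G) (MvPolynomial.aeval x f) = θ (Ideal.Quotient.mk _ f) := by
    have e : (Ideal.Quotient.mkₐ (ArtFun.Art.dual k k) (idl G)).comp (MvPolynomial.aeval x) =
        θ.toAlgHom.comp (Ideal.Quotient.mkₐ _ _) :=
      MvPolynomial.algHom_ext fun i => (congrArg _ (aeval_X x i)).trans (hx1 i)
    exact fun f => AlgHom.congr_fun e f
  refine (mem_coboundaries P _ _).2 ⟨lin0 P fun i => th P sndL (x i), fun s => ?_⟩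
  obtain ⟨h1, h2⟩ := th_subst P x hx2 (F s)
  obtain ⟨h, hh⟩ : MvPolynomial.aeval x (F s) ∈ idl G := by
    rw [← Ideal.Quotient.eq_zero_iff_mem, hcomm, Ideal.Quotient.eq_zero_iff_mem.2 (self_mem_idl F s), map_zero]
  rw [hF.red_eq] at h2 h1
  show th P sndL (F s) + _ = cvec P G s
  rw [← h2, ← hh, th_jF P sndL sndL_mul hG.red_eq]
  have ht : rdF P _ h - Finsupp.single s 1 ∈ CotT.relKer P := by
    show CotT.jmap P _ = 0
    rw [map_sub, ← rd_jF hG.red_eq, hh, h1, CotT.jmap_single, one_mul, sub_self]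
  have := (lin1_mem_cocycles P _).1 (lin1_cvec_mem P hG) ⟨_, ht⟩
  rw [map_sub, Finsupp.linearCombination_single, one_smul, sub_eq_zero] at this
  exact this

theorem exists_algEquiv_of_cls_eq {F G : σ → MvPolynomial ι (ArtFun.Art.dual k k)} (hF : IsPres P F)
    (hG : IsPres P G) (h : cls P F hF = cls P G hG) :
    ∃ θ : Alg F ≃ₐ[ArtFun.Art.dual k k] Alg G, ∀ e, hG.q (θ e) = hF.q e := by
  obtain ⟨ψ, hψ⟩ := (mem_coboundaries P _ _).1 h
  let a : ι → B₀ := fun i => ψ (P.cotangentSpaceBasis i)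
  have hψa : lin0 P a = ψ := P.cotangentSpaceBasis.ext fun i => by rw [lin0, Module.Basis.constr_basis]
  choose l hl using fun i => P.toExtension.algebraMap_surjective (a i)
  let x : ι → MvPolynomial ι (ArtFun.Art.dual k k) := fun i => X i + C eps * incl P (l i)
  have hx : ∀ i, rd P _ (x i) = X i := fun i => by
    show rd P _ (X i + C eps * incl P (l i)) = X i
    rw [map_add, map_mul, rd_C, res_eps, C_0, zero_mul, add_zero]
    exact map_X _ i
  have hxa : (fun i => th P sndL (x i)) = a := funext fun i => by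
    show th P sndL (X i + C eps * incl P (l i)) = a i
    rw [map_add, th_eps_mul, qv, rd_incl, show (X i : MvPolynomial ι (ArtFun.Art.dual k k)) =
      monomial (Finsupp.single i 1) 1 from rfl, th_monomial,
      show sndL (1 : ArtFun.Art.dual k k) = (0 : k) from TrivSqZeroExt.snd_one (R := k) (M := k), zero_smul, zero_add]
    exact hl i
  let aev : MvPolynomial ι (ArtFun.Art.dual k k) →ₐ[ArtFun.Art.dual k k] Alg G :=
    (Ideal.Quotient.mkₐ _ (idl G)).comp (MvPolynomial.aeval x)
  have hq : ∀ f, hG.q (aev f) = algebraMap P.toExtension.Ring B₀ (rd P _ f) := fun f => by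
    show hG.q (Ideal.Quotient.mk _ _) = _
    rw [hG.q_mk]
    exact congrArg (algebraMap P.toExtension.Ring B₀) (th_subst P x hx f).1
  haveI := hG.free
  have hK : ∀ s, aev (F s) = 0 := fun s => by
    show Ideal.Quotient.mk (idl G) (MvPolynomial.aeval x (F s)) = 0
    obtain ⟨h1, h2⟩ := th_subst P x hx (F s)
    rw [hF.red_eq] at h1 h2
    rw [hxa, hψa] at h2
    obtain ⟨v, -, hv⟩ := exists_rel_of_zero (z := MvPolynomial.aeval x (F s) - G s) hG.red_eq
      (by rw [map_sub, h1, hG.red_eq, sub_self]) (by rw [map_sub, h2]; exact sub_eq_zero.2 (hψ s))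
    rw [Ideal.Quotient.eq_zero_iff_mem, show MvPolynomial.aeval x (F s) = jF G v + G s by rw [hv]; abel]
    exact add_mem (show jF G v ∈ idl G from ⟨v, rfl⟩) (self_mem_idl G s)
  obtain ⟨hF', θ, -, hθ⟩ := exists_algEquiv hG.q aev hq hG.q_ker F hK hF.red_eq
  exact ⟨θ, hθ⟩

theorem exists_cls_eq (z : CotT.T1 P B₀) :
    ∃ (F : σ → MvPolynomial ι (ArtFun.Art.dual k k)) (hF : IsPres P F), cls P F hF = z := by
  obtain ⟨⟨ψ, hψ⟩, rfl⟩ := Submodule.Quotient.mk_surjective _ z
  let c : σ → B₀ := fun s => ψ (CotT.L1basis P s)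
  have hψc : lin1 P c = ψ := (CotT.L1basis P).ext fun s => by rw [lin1, Module.Basis.constr_basis]
  choose l hl using fun s => P.toExtension.algebraMap_surjective (c s)
  let F : σ → MvPolynomial ι (ArtFun.Art.dual k k) := fun s => incl P (CotT.rel P s) + C eps * incl P (l s)
  have hr : ∀ s, rd P _ (F s) = CotT.rel P s := fun s => by
    show rd P _ (incl P (CotT.rel P s) + C eps * incl P (l s)) = _
    rw [map_add, map_mul, rd_C, res_eps, C_0, zero_mul, add_zero, rd_incl]
  have hc : cvec P F = c := funext fun s => by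
    show th P sndL (incl P (CotT.rel P s) + C eps * incl P (l s)) = c s
    rw [map_add, th_incl, zero_add, th_eps_mul, qv, rd_incl]
    exact hl s
  have hF : IsPres P F := by
    refine ⟨hr, fun t => ?_⟩
    obtain ⟨h₀, hh₀⟩ := rdF_surjective P (ArtFun.Art.dual k k) t.1
    obtain ⟨v, hv0, hv⟩ := exists_rel_of_zero hr (z := jF F h₀)
      (by rw [rd_jF hr, hh₀]; exact t.2)
      (by
        rw [th_jF P sndL sndL_mul hr, hh₀]
        show Finsupp.linearCombination _ (cvec P F) _ = 0
        rw [hc]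
        exact (lin1_mem_cocycles P c).1 (by rw [hψc]; exact hψ) t)
    exact ⟨h₀ - v, by rw [rdF, Unobs.redF_sub]; show rdF P _ h₀ - rdF P _ v = _; rw [hh₀, hv0, sub_zero],
      by rw [map_sub, hv, sub_self]⟩
  exact ⟨F, hF, congrArg Submodule.Quotient.mk (Subtype.ext (show lin1 P (cvec P F) = ψ by rw [hc, hψc]))⟩

/-- The class of a first order deformation. -/
def cl1 (z : (Def (k := k) (B₀ := B₀)).obj (ArtFun.Art.dual k k)) : CotT.T1 P B₀ :=
  cls P (exists_presents (P := P) z).choose (exists_presents (P := P) z).choose_spec.1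

lemma cl1_eq {z : (Def (k := k) (B₀ := B₀)).obj (ArtFun.Art.dual k k)}
    {F : σ → MvPolynomial ι (ArtFun.Art.dual k k)} (hF : Presents P F z) : cl1 P z = cls P F hF.1 := by
  obtain ⟨θ, hθ⟩ := exists_algEquiv_of_presents (exists_presents (P := P) z).choose_spec hF
  exact cls_eq_of_algEquiv P _ _ θ hθ

theorem cl1_bijective : Function.Bijective (cl1 (k := k) (B₀ := B₀) P) := by
  refine ⟨fun z w h => ?_, fun c => ?_⟩
  · obtain ⟨F, hF⟩ := exists_presents (P := P) z
    obtain ⟨G, hG⟩ := exists_presents (P := P) w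
    rw [cl1_eq P hF, cl1_eq P hG] at h
    obtain ⟨θ, hθ⟩ := exists_algEquiv_of_cls_eq P hF.1 hG.1 h
    exact (presents_of_algEquiv hF hG.1 θ hθ).2.trans hG.2.symm
  · obtain ⟨F, hF, rfl⟩ := exists_cls_eq P c
    exact ⟨(sch hF).cl, cl1_eq P ⟨hF, rfl⟩⟩

lemma cl1_map_dual2_plus (z : (Def (k := k) (B₀ := B₀)).obj (ArtFun.Art.dual2 k k)) :
    cl1 P ((Def (k := k) (B₀ := B₀)).map ArtFun.Art.plus z) =
      cl1 P ((Def (k := k) (B₀ := B₀)).map ArtFun.Art.pr₁ z) + cl1 P ((Def (k := k) (B₀ := B₀)).map ArtFun.Art.pr₂ z) := by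
  obtain ⟨F, hF⟩ := exists_presents (P := P) z
  have hs : Function.Surjective (ArtFun.Art.plus : ArtFun.Art.dual2 k k ⟶ ArtFun.Art.dual k k).toAlgHom := fun a =>
    ⟨((TrivSqZeroExt.fst (R := k) (M := k) a, (TrivSqZeroExt.snd (R := k) (M := k) a, 0)) : TrivSqZeroExt k (k × k)),
      TrivSqZeroExt.ext (R := k) (M := k) rfl (show _ + (0 : k) = _ from add_zero _)⟩
  have hs₁ : Function.Surjective (ArtFun.Art.pr₁ : ArtFun.Art.dual2 k k ⟶ ArtFun.Art.dual k k).toAlgHom := fun a =>
    ⟨((TrivSqZeroExt.fst (R := k) (M := k) a, (TrivSqZeroExt.snd (R := k) (M := k) a, 0)) : TrivSqZeroExt k (k × k)),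
      TrivSqZeroExt.ext (R := k) (M := k) rfl rfl⟩
  have hs₂ : Function.Surjective (ArtFun.Art.pr₂ : ArtFun.Art.dual2 k k ⟶ ArtFun.Art.dual k k).toAlgHom := fun a =>
    ⟨((TrivSqZeroExt.fst (R := k) (M := k) a, (0, TrivSqZeroExt.snd (R := k) (M := k) a)) : TrivSqZeroExt k (k × k)),
      TrivSqZeroExt.ext (R := k) (M := k) rfl rfl⟩
  rw [cl1_eq P (presents_map _ hs hF), cl1_eq P (presents_map _ hs₁ hF), cl1_eq P (presents_map _ hs₂ hF)]
  refine congrArg Submodule.Quotient.mk (Subtype.ext ((CotT.L1basis P).ext fun s => ?_))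
  simp only [Submodule.coe_add, LinearMap.add_apply, lin1, Module.Basis.constr_basis, cvec, push, th_map,
    ← th_add]
  refine congrArg (fun ρ => th P ρ (F s)) (LinearMap.ext fun a => ?_)
  rfl

lemma cl1_map_scale (c : k) (hc : c ≠ 0) (z : (Def (k := k) (B₀ := B₀)).obj (ArtFun.Art.dual k k)) :
    cl1 P ((Def (k := k) (B₀ := B₀)).map (ArtFun.Art.scale c) z) = c • cl1 P z := by
  obtain ⟨F, hF⟩ := exists_presents (P := P) z
  have hs : Function.Surjective (ArtFun.Art.scale c : ArtFun.Art.dual k k ⟶ ArtFun.Art.dual k k).toAlgHom := fun a =>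
    ⟨((TrivSqZeroExt.fst (R := k) (M := k) a, c⁻¹ * TrivSqZeroExt.snd (R := k) (M := k) a) : TrivSqZeroExt k k),
      TrivSqZeroExt.ext (R := k) (M := k) rfl (mul_inv_cancel_left₀ hc _)⟩
  rw [cl1_eq P (presents_map _ hs hF), cl1_eq P hF]
  refine congrArg Submodule.Quotient.mk (Subtype.ext ((CotT.L1basis P).ext fun s => ?_))
  show lin1 P _ _ = c • lin1 P _ _
  simp only [lin1, Module.Basis.constr_basis, cvec, push, th_map, ← th_smul]
  refine congrArg (fun ρ => th P ρ (F s)) (LinearMap.ext fun a => ?_)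
  rfl

end DefLib.AffPres
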