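import Groth.Agent.DefLib.UnobsAlg
import Groth.Agent.DefLib.ArtFlat
import Groth.Prelude.Def_ArtFun

/-!
# Presentations of flat deformations of a presented algebra
-/

set_option autoImplicit false
set_option maxHeartbeats 1000000
set_option linter.unusedSectionVars false
set_option backward.isDefEq.respectTransparency false

universe u

open MvPolynomial IsLocalRing

noncomputable section

namespace DefLib.AffPres

variable {k B₀ : Type u} [Field k] [CommRing B₀] [Algebra k B₀] {ι σ : Type u}
  (P : Algebra.Presentation k B₀ ι σ) (A : ArtFun.Art k k)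

lemma ker_res : RingHom.ker A.res.toRingHom = maximalIdeal A := by
  ext a
  exact (ArtFun.Art.mem_maximalIdeal_iff A a).symm

lemma nilpotent_maximalIdeal : IsNilpotent (maximalIdeal A) := by
  rw [← IsLocalRing.jacobson_eq_maximalIdeal ⊥ bot_ne_top]
  exact IsArtinianRing.isNilpotent_jacobson_bot

lemma nilpotent_ker_res : IsNilpotent (RingHom.ker A.res.toRingHom) := by
  rw [ker_res]
  exact nilpotent_maximalIdeal A

/-- Reduction to the special fibre. -/
abbrev rd : MvPolynomial ι A →+* P.toExtension.Ring := Unobs.red P A.res.toRingHom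

/-- Coefficientwise reduction to the special fibre. -/
abbrev rdF : (σ →₀ MvPolynomial ι A) → CotT.relMod P := Unobs.redF P A.res.toRingHom

lemma rd_surjective : Function.Surjective (rd P A) := MvPolynomial.map_surjective _ A.res_surjective

lemma rdF_surjective : Function.Surjective (rdF P A) :=
  Finsupp.mapRange_surjective _ (map_zero _) (rd_surjective P A)

lemma rd_C (a : A) : rd P A (C a) = C (A.res a) := map_C _ a

variable {P A}

/-- The combination of relations. -/
abbrev jF (F : σ → MvPolynomial ι A) : (σ →₀ MvPolynomial ι A) →ₗ[MvPolynomial ι A] MvPolynomial ι A :=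
  Finsupp.linearCombination (MvPolynomial ι A) F

/-- The ideal of relations. -/
abbrev idl (F : σ → MvPolynomial ι A) : Ideal (MvPolynomial ι A) := LinearMap.range (jF F)

variable (P) in
/-- Lifted relations all of whose syzygies lift. -/
structure IsPres (F : σ → MvPolynomial ι A) : Prop where
  red_eq : ∀ s, rd P A (F s) = CotT.rel P s
  lifts : ∀ t : CotT.relKer P, ∃ h, rdF P A h = t.1 ∧ jF F h = 0

lemma rd_jF {F : σ → MvPolynomial ι A} (hF : ∀ s, rd P A (F s) = CotT.rel P s) (h : σ →₀ MvPolynomial ι A) :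
    rd P A (jF F h) = CotT.jmap P (rdF P A h) := by
  rw [Unobs.map_lc]
  simp only [hF]
  rfl

lemma algebraMap_rd_idl {F : σ → MvPolynomial ι A} (hF : ∀ s, rd P A (F s) = CotT.rel P s) {f : MvPolynomial ι A}
    (hf : f ∈ idl F) : algebraMap P.toExtension.Ring B₀ (rd P A f) = 0 := by
  obtain ⟨h, rfl⟩ := hf
  rw [rd_jF hF, CotT.algebraMap_jmap]

lemma self_mem_idl (F : σ → MvPolynomial ι A) (s : σ) : F s ∈ idl F :=
  ⟨Finsupp.single s 1, by simp⟩

variable {F : σ → MvPolynomial ι A} (hF : IsPres P F)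

include hF in
lemma IsPres.inter {f : MvPolynomial ι A} (hf : f ∈ idl F) (hr : rd P A f = 0) :
    f ∈ maximalIdeal A • (idl F).restrictScalars A := by
  obtain ⟨h, rfl⟩ := hf
  obtain ⟨h', h1, h2⟩ := hF.lifts ⟨rdF P A h, by
    show CotT.jmap P _ = 0
    rw [← rd_jF hF.red_eq, hr]⟩
  have h3 : h - h' ∈ RingHom.ker A.res.toRingHom • (⊤ : Submodule A (σ →₀ MvPolynomial ι A)) :=
    Unobs.redF_eq_zero P A.res.toRingHom (by rw [Unobs.redF_sub]; exact sub_eq_zero.2 h1.symm)
  have h4 : ((jF F).restrictScalars A) (h - h') ∈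
      Submodule.map ((jF F).restrictScalars A) (RingHom.ker A.res.toRingHom • ⊤) := ⟨_, h3, rfl⟩
  rw [Submodule.map_smul'', Submodule.map_top, ker_res] at h4
  have h5 : jF F h = jF F (h - h') := by rw [map_sub, h2, sub_zero]
  rw [h5]
  exact Submodule.smul_mono le_rfl (by rintro _ ⟨g, rfl⟩; exact ⟨g, rfl⟩) h4

/-- The deformed algebra. -/
abbrev Alg (F : σ → MvPolynomial ι A) : Type u := MvPolynomial ι A ⧸ idl F

include hF in
theorem IsPres.flat : Module.Flat A (Alg F) := by
  have h : Module.Flat A (MvPolynomial ι A ⧸ LinearMap.range ((idl F).restrictScalars A).subtype) :=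
    (DefLib.splitInjective_of_injective_mod (nilpotent_maximalIdeal A) ((idl F).restrictScalars A).subtype
    (fun f hf => by
      have h1 : rd P A f.1 = 0 := by
        rw [← ker_res] at hf
        exact Unobs.red_smul_top P A.res.toRingHom hf
      have h2 := hF.inter (f := f.1) f.2 h1
      have h3 : maximalIdeal A • (idl F).restrictScalars A =
          Submodule.map ((idl F).restrictScalars A).subtype (maximalIdeal A • ⊤) := by
        rw [Submodule.map_smul'', Submodule.map_top, Submodule.range_subtype]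
      rw [h3] at h2
      obtain ⟨g, hg, hgf⟩ := h2
      rwa [← Subtype.ext hgf])).2
  rw [Submodule.range_subtype] at h
  exact Module.Flat.of_linearEquiv (Submodule.Quotient.restrictScalarsEquiv A (idl F)).symm

include hF in
theorem IsPres.free : Module.Free A (Alg F) :=
  haveI := hF.flat
  DefLib.free_of_flat_of_nilpotent (nilpotent_maximalIdeal A)

/-- The map to the special fibre. -/
def IsPres.q : Alg F →+* B₀ :=
  Ideal.Quotient.lift _ ((algebraMap P.toExtension.Ring B₀).comp (rd P A))
    (fun _ hf => algebraMap_rd_idl hF.red_eq hf)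

lemma IsPres.q_mk (f : MvPolynomial ι A) :
    hF.q (Ideal.Quotient.mk _ f) = algebraMap P.toExtension.Ring B₀ (rd P A f) := rfl

lemma IsPres.q_surjective : Function.Surjective hF.q := fun b => by
  obtain ⟨f₀, rfl⟩ : ∃ f, algebraMap P.toExtension.Ring B₀ f = b := P.toExtension.algebraMap_surjective b
  obtain ⟨f, rfl⟩ := rd_surjective P A f₀
  exact ⟨Ideal.Quotient.mk _ f, rfl⟩

lemma IsPres.q_algebraMap (a : A) : hF.q (algebraMap A (Alg F) a) = algebraMap k B₀ (A.res a) := by
  show hF.q (Ideal.Quotient.mk _ (C a)) = _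
  rw [hF.q_mk, rd_C, CotT.algebraMap_toExtension, aeval_C]

lemma IsPres.q_ker : RingHom.ker hF.q ≤ (RingHom.ker A.res.toRingHom).map (algebraMap A (Alg F)) := by
  intro e he
  obtain ⟨f, rfl⟩ := Ideal.Quotient.mk_surjective e
  obtain ⟨g₀, hg₀⟩ : rd P A f ∈ LinearMap.range (CotT.jmap P) := by
    rw [CotT.range_jmap]
    exact he
  obtain ⟨g, rfl⟩ := rdF_surjective P A g₀
  have h0 := Unobs.red_eq_zero P A.res.toRingHom (x := f - jF F g) (by
    rw [map_sub]; exact sub_eq_zero.2 (hg₀.symm.trans (rd_jF hF.red_eq g).symm))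
  rw [Ideal.smul_top_eq_map] at h0
  have h1 : Ideal.Quotient.mk (idl F) f = Ideal.Quotient.mk (idl F) (f - jF F g) := by
    rw [map_sub, Ideal.Quotient.eq_zero_iff_mem.2 (show jF F g ∈ idl F from ⟨g, rfl⟩), sub_zero]
  rw [h1, show algebraMap A (Alg F) = (Ideal.Quotient.mk (idl F)).comp (algebraMap A (MvPolynomial ι A)) from rfl,
    ← Ideal.map_map]
  exact Ideal.mem_map_of_mem _ h0

include hF in
/-- A generalised inverse of the combination of relations. -/
theorem IsPres.exists_genInv : ∃ G : MvPolynomial ι A →ₗ[A] (σ →₀ MvPolynomial ι A),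
    ∀ y ∈ idl F, jF F (G y) = y := by
  haveI := hF.free
  let mk : MvPolynomial ι A →ₗ[A] Alg F := (Ideal.Quotient.mkₐ A (idl F)).toLinearMap
  obtain ⟨sec, hsec⟩ := Module.projective_lifting_property mk LinearMap.id Ideal.Quotient.mk_surjective
  let prK : MvPolynomial ι A →ₗ[A] (idl F).restrictScalars A :=
    (LinearMap.id - sec ∘ₗ mk).codRestrict _ (fun f => by
      show f - sec (mk f) ∈ idl F
      rw [← Ideal.Quotient.eq_zero_iff_mem]
      show mk (f - sec (mk f)) = 0
      rw [map_sub, show mk (sec (mk f)) = mk f from LinearMap.congr_fun hsec (mk f), sub_self])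
  have hprK : prK ∘ₗ ((idl F).restrictScalars A).subtype = LinearMap.id := by
    refine LinearMap.ext fun f => Subtype.ext ?_
    show f.1 - sec (mk f.1) = f.1
    rw [show mk f.1 = 0 from Ideal.Quotient.eq_zero_iff_mem.2 f.2, map_zero, sub_zero]
  haveI : Module.Projective A ((idl F).restrictScalars A) := Module.Projective.of_split _ prK hprK
  let jK : (σ →₀ MvPolynomial ι A) →ₗ[A] (idl F).restrictScalars A :=
    ((jF F).restrictScalars A).codRestrict _ (fun h => ⟨h, rfl⟩)
  obtain ⟨g, hg⟩ := Module.projective_lifting_property jK LinearMap.id (fun y => by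
    obtain ⟨h, hh⟩ := (y.2 : y.1 ∈ idl F)
    exact ⟨h, Subtype.ext hh⟩)
  refine ⟨g ∘ₗ prK, ?_⟩
  rintro _ ⟨h, rfl⟩
  show jF F (g (prK (jF F h))) = jF F h
  rw [show prK (jF F h) = jK h from LinearMap.congr_fun hprK (jK h)]
  exact congrArg Subtype.val (LinearMap.congr_fun hg (jK h))

include hF in
/-- Relations reducing to zero are combinations of relations with coefficients in `m`. -/
theorem IsPres.rel_mem_smul {h : σ →₀ MvPolynomial ι A} (hj : jF F h = 0) (hr : rdF P A h = 0) :
    h ∈ maximalIdeal A • (LinearMap.ker (jF F)).restrictScalars A := by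
  obtain ⟨G, hG⟩ := hF.exists_genInv
  let T : (σ →₀ MvPolynomial ι A) →ₗ[A] (σ →₀ MvPolynomial ι A) := LinearMap.id - G ∘ₗ (jF F).restrictScalars A
  have h1 : h ∈ Submodule.map T (maximalIdeal A • ⊤) := by
    refine ⟨h, ?_, ?_⟩
    · rw [← ker_res]
      exact Unobs.redF_eq_zero P A.res.toRingHom hr
    · show h - G (jF F h) = h
      rw [hj, map_zero, sub_zero]
  rw [Submodule.map_smul'', Submodule.map_top] at h1
  refine Submodule.smul_mono le_rfl ?_ h1
  rintro _ ⟨g, rfl⟩
  show jF F (g - G (jF F g)) = 0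
  rw [map_sub, hG _ ⟨g, rfl⟩, sub_self]

section Recognition

variable {B : Type u} [CommRing B] [Algebra A B] (q : B →+* B₀) (aev : MvPolynomial ι A →ₐ[A] B)
  (hq : ∀ f, q (aev f) = algebraMap P.toExtension.Ring B₀ (rd P A f))
  (hqk : RingHom.ker q ≤ (RingHom.ker A.res.toRingHom).map (algebraMap A B))

include hq hqk in
lemma aev_surjective : Function.Surjective aev := by
  have h : (⊤ : Submodule A B) ≤ LinearMap.range aev.toLinearMap ⊔ RingHom.ker A.res.toRingHom • ⊤ := fun b _ => by
    obtain ⟨f₀, hf₀⟩ : ∃ f, algebraMap P.toExtension.Ring B₀ f = q b := P.toExtension.algebraMap_surjective _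
    obtain ⟨f, rfl⟩ := rd_surjective P A f₀
    refine Submodule.mem_sup.2 ⟨aev f, ⟨f, rfl⟩, b - aev f, ?_, by abel⟩
    rw [Ideal.smul_top_eq_map]
    exact hqk (RingHom.mem_ker.2 (by rw [map_sub, hq, hf₀, sub_self]))
  exact fun b => Unobs.le_of_le_sup_smul (nilpotent_ker_res A) h (Submodule.mem_top (x := b))

include hq hqk in
lemma exists_kernel_lift (s : σ) : ∃ f, aev f = 0 ∧ rd P A f = CotT.rel P s := by
  obtain ⟨f₀, hf₀⟩ := rd_surjective P A (CotT.rel P s)
  have h1 : aev f₀ ∈ Submodule.map aev.toLinearMap (RingHom.ker A.res.toRingHom • ⊤) := by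
    rw [Submodule.map_smul'', Submodule.map_top, LinearMap.range_eq_top.2 (aev_surjective q aev hq hqk),
      Ideal.smul_top_eq_map]
    exact hqk (RingHom.mem_ker.2 (by rw [hq, hf₀, CotT.algebraMap_rel]))
  obtain ⟨g, hg, hge⟩ := h1
  exact ⟨f₀ - g, by rw [map_sub]; exact sub_eq_zero.2 hge.symm,
    by rw [map_sub, hf₀]; exact (sub_eq_self).2 (Unobs.red_smul_top P A.res.toRingHom hg)⟩

include hq hqk in
/-- Recognition of presentations: lifts of the relations lying in the kernel present the algebra. -/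
theorem exists_algEquiv [Module.Free A B] (F : σ → MvPolynomial ι A) (hFK : ∀ s, aev (F s) = 0)
    (hFr : ∀ s, rd P A (F s) = CotT.rel P s) :
    ∃ h : IsPres P F, ∃ θ : Alg F ≃ₐ[A] B,
      (∀ f, θ (Ideal.Quotient.mk _ f) = aev f) ∧ ∀ e, q (θ e) = h.q e := by
  have hs := aev_surjective q aev hq hqk
  let K : Submodule A (MvPolynomial ι A) := LinearMap.ker aev.toLinearMap
  obtain ⟨sec, hsec⟩ := Module.projective_lifting_property aev.toLinearMap LinearMap.id hs
  let prK : MvPolynomial ι A →ₗ[A] MvPolynomial ι A := LinearMap.id - sec ∘ₗ aev.toLinearMap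
  have hprK : ∀ f, prK f ∈ K := fun f => by
    show aev (f - sec (aev f)) = 0
    rw [map_sub, show aev (sec (aev f)) = aev f from LinearMap.congr_fun hsec (aev f), sub_self]
  have hKm : ∀ f, aev f = 0 → rd P A f = 0 → f ∈ RingHom.ker A.res.toRingHom • K := fun f hf hr => by
    have h1 : prK f ∈ Submodule.map prK (RingHom.ker A.res.toRingHom • ⊤) :=
      ⟨f, Unobs.red_eq_zero P A.res.toRingHom hr, rfl⟩
    rw [Submodule.map_smul''] at h1
    have h2 : prK f = f := by
      show f - sec (aev f) = f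
      rw [hf, map_zero, sub_zero]
    rw [h2] at h1
    exact Submodule.smul_mono le_rfl (by rintro _ ⟨g, -, rfl⟩; exact hprK g) h1
  have hjK : ∀ h, aev (jF F h) = 0 := fun h => by
    rw [← AlgHom.coe_toRingHom, Unobs.map_lc]
    simp only [AlgHom.coe_toRingHom, hFK]
    simp [Finsupp.linearCombination_apply]
  have hjr : (idl F).restrictScalars A = K := by
    refine le_antisymm ?_ (Unobs.le_of_le_sup_smul (nilpotent_ker_res A) fun f hf => ?_)
    · rintro _ ⟨h, rfl⟩
      exact hjK h
    · obtain ⟨g₀, hg₀⟩ : rd P A f ∈ LinearMap.range (CotT.jmap P) := by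
        rw [CotT.range_jmap]
        show algebraMap P.toExtension.Ring B₀ _ = 0
        rw [← hq, show aev f = 0 from hf, map_zero]
      obtain ⟨g, rfl⟩ := rdF_surjective P A g₀
      refine Submodule.mem_sup.2 ⟨jF F g, ⟨g, rfl⟩, f - jF F g, hKm _ ?_ ?_, by abel⟩
      · rw [map_sub, show aev f = 0 from hf, hjK, sub_self]
      · rw [map_sub, rd_jF hFr]
        exact sub_eq_zero.2 hg₀.symm
  have hK' : ∀ f, aev f = 0 ↔ f ∈ idl F := fun f => (SetLike.ext_iff.1 hjr f).symm
  haveI : Module.Projective A K := Module.Projective.of_split K.subtype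
    (prK.codRestrict K hprK) (LinearMap.ext fun f => Subtype.ext (by
      show f.1 - sec (aev f.1) = f.1
      rw [show aev f.1 = 0 from f.2, map_zero, sub_zero]))
  let jK : (σ →₀ MvPolynomial ι A) →ₗ[A] K := ((jF F).restrictScalars A).codRestrict K hjK
  obtain ⟨g, hg⟩ := Module.projective_lifting_property jK LinearMap.id (fun y => by
    obtain ⟨h, hh⟩ := (hK' y.1).1 y.2
    exact ⟨h, Subtype.ext hh⟩)
  let G : MvPolynomial ι A →ₗ[A] (σ →₀ MvPolynomial ι A) := g ∘ₗ prK.codRestrict K hprK
  have hG : ∀ h, jF F (G (jF F h)) = jF F h := fun h => by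
    have e : prK.codRestrict K hprK (jF F h) = jK h := Subtype.ext (by
      show jF F h - sec (aev (jF F h)) = jF F h
      rw [hjK, map_zero, sub_zero])
    show jF F (g (prK.codRestrict K hprK (jF F h))) = _
    rw [e]
    exact congrArg Subtype.val (LinearMap.congr_fun hg (jK h))
  have hpres : IsPres P F := by
    refine ⟨hFr, fun t => ?_⟩
    obtain ⟨h₀, hh₀⟩ := rdF_surjective P A t.1
    refine ⟨h₀ - G (jF F h₀), ?_, by rw [map_sub, hG, sub_self]⟩
    have h1 : rd P A (jF F h₀) = 0 := by
      rw [rd_jF hFr, hh₀]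
      exact t.2
    have h2 : G (jF F h₀) ∈ RingHom.ker A.res.toRingHom • (⊤ : Submodule A (σ →₀ MvPolynomial ι A)) := by
      have : G (jF F h₀) ∈ Submodule.map G (RingHom.ker A.res.toRingHom • ⊤) :=
        ⟨_, Unobs.red_eq_zero P A.res.toRingHom h1, rfl⟩
      rw [Submodule.map_smul''] at this
      exact Submodule.smul_mono le_rfl le_top this
    show Unobs.redF P A.res.toRingHom _ = _
    rw [Unobs.redF_sub, Unobs.redF_smul_top P A.res.toRingHom h2, sub_zero]
    exact hh₀
  have hker : RingHom.ker aev.toRingHom = idl F := Ideal.ext hK'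
  let θ₀ : Alg F →ₐ[A] B := Ideal.Quotient.liftₐ (idl F) aev (fun f hf => (hK' f).2 hf)
  have hb : Function.Bijective θ₀ := by
    refine ⟨(injective_iff_map_eq_zero θ₀).2 fun e he => ?_, fun b => ?_⟩
    · obtain ⟨f, rfl⟩ := Ideal.Quotient.mk_surjective e
      exact Ideal.Quotient.eq_zero_iff_mem.2 ((hK' f).1 he)
    · obtain ⟨f, rfl⟩ := hs b
      exact ⟨Ideal.Quotient.mk _ f, rfl⟩
  refine ⟨hpres, AlgEquiv.ofBijective θ₀ hb, fun f => rfl, fun e => ?_⟩
  obtain ⟨f, rfl⟩ := Ideal.Quotient.mk_surjective e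
  exact hq f

end Recognition

/-- A flat algebra with the given special fibre is presented. -/
theorem exists_isPres {B : Type u} [CommRing B] [Algebra A B] [Module.Free A B] (q : B →+* B₀)
    (hqs : Function.Surjective q) (hqA : ∀ a, q (algebraMap A B a) = algebraMap k B₀ (A.res a))
    (hqk : RingHom.ker q ≤ (RingHom.ker A.res.toRingHom).map (algebraMap A B)) :
    ∃ (F : σ → MvPolynomial ι A) (h : IsPres P F) (θ : Alg F ≃ₐ[A] B), ∀ e, q (θ e) = h.q e := by
  choose x hx using fun i => hqs (P.val i)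
  let aev : MvPolynomial ι A →ₐ[A] B := MvPolynomial.aeval x
  have hq : ∀ f, q (aev f) = algebraMap P.toExtension.Ring B₀ (rd P A f) := by
    have e : q.comp aev.toRingHom = (algebraMap P.toExtension.Ring B₀).comp (rd P A) := by
      refine MvPolynomial.ringHom_ext (fun a => ?_) (fun i => ?_)
      · show q (aev (C a)) = algebraMap P.toExtension.Ring B₀ (MvPolynomial.map A.res.toRingHom (C a))
        rw [map_C, CotT.algebraMap_toExtension]
        simp [aev, hqA]
      · show q (aev (X i)) = algebraMap P.toExtension.Ring B₀ (MvPolynomial.map A.res.toRingHom (X i))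
        rw [map_X, CotT.algebraMap_toExtension]
        simp [aev, hx]
    exact fun f => congr($e f)
  choose F hFK hFr using exists_kernel_lift q aev hq hqk
  obtain ⟨h, θ, -, hθ⟩ := exists_algEquiv q aev hq hqk F hFK hFr
  exact ⟨F, h, θ, hθ⟩

end DefLib.AffPres
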