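import Groth.Agent.DefLib.AffPres.Obs
import Groth.Agent.DefLib.AffineT1
import Groth.Agent.HilbObsTh.Bounds

/-!
# Dimension bounds for semiuniversal deformations of affine schemes
-/

set_option autoImplicit false
set_option maxHeartbeats 1000000
set_option linter.style.haveILetI false
set_option linter.unusedSectionVars false
set_option backward.isDefEq.respectTransparency false

universe u

open CategoryTheory AlgebraicGeometry
open IsLocalRing ArtFun

noncomputable section

namespace DefLib.AffPres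

variable {k : Type u} [Field k] {B₀ : Type u} [CommRing B₀] [Algebra k B₀] {ι σ : Type u}
  (P : Algebra.Presentation k B₀ ι σ) (H : ArtFun.Hull (Def (k := k) (B₀ := B₀)))

theorem finrank_cotangent [Module.Finite k (CotT.T1 P B₀)] :
    Module.finrank (ResidueField H.ring.carrier) (CotangentSpace H.ring.carrier) =
      Module.finrank k (CotT.T1 P B₀) := by
  let R := H.ring
  let Ψ₀ : Module.Dual k (maximalIdeal R.carrier).Cotangent → CotT.T1 P B₀ :=
    fun f => cl1 P (H.family.app _ (HilbGlueLib.ptD R.res f))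
  have hbij : Function.Bijective Ψ₀ :=
    (cl1_bijective P).comp (H.miniversal.2.comp HilbGlueLib.ptD_bijective)
  have hadd : ∀ f g, Ψ₀ (f + g) = Ψ₀ f + Ψ₀ g := fun f g => by
    show cl1 P _ = cl1 P _ + cl1 P _
    rw [HilbGlueLib.ptD2_plus, HilbGlueLib.ptD2_pr₁ f g, HilbGlueLib.ptD2_pr₂ f g,
      H.family.natural, H.family.natural, H.family.natural, cl1_map_dual2_plus]
  let Ψ₁ : Module.Dual k (maximalIdeal R.carrier).Cotangent →+ CotT.T1 P B₀ := AddMonoidHom.mk' Ψ₀ hadd
  let Ψ : Module.Dual k (maximalIdeal R.carrier).Cotangent →ₗ[k] CotT.T1 P B₀ :=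
    { toFun := Ψ₀
      map_add' := hadd
      map_smul' := fun c f => by
        by_cases hc : c = 0
        · subst hc
          rw [zero_smul, RingHom.id_apply, zero_smul]
          exact Ψ₁.map_zero
        · show cl1 P _ = c • cl1 P _
          rw [HilbGlueLib.ptD_smul, H.family.natural, cl1_map_scale P c hc] }
  rw [HilbGlueLib.finrank_residue R.res, ← Subspace.dual_finrank_eq,
    (LinearEquiv.ofBijective Ψ hbij).finrank_eq]

lemma subsingleton_obj_base :
    Subsingleton ((Def (k := k) (B₀ := B₀)).obj (ArtFun.Art.base k k)) :=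
  ⟨fun z w => by
    induction z using Quotient.inductionOn with
    | h a =>
    induction w using Quotient.inductionOn with
    | h b =>
    have hx : Flat (Spec.map (CommRingCat.ofHom (algebraMap k B₀))) :=
      Flat.SpecMap_iff.2 (RingHom.flat_algebraMap_iff.2 inferInstance)
    exact Quotient.sound ⟨(DefLib.isoSelf hx a).trans (DefLib.isoSelf hx b).symm⟩⟩

lemma hull_surjective (A : Art k k) : Function.Surjective (H.family.app A) := fun y => by
  haveI := subsingleton_obj_base (k := k) (B₀ := B₀)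
  let φ₀ : HomSet H.ring.carrier H.ring.res (Art.base k k) := ⟨H.ring.res, AlgHom.id_comp _⟩
  obtain ⟨ψ, -, hψ⟩ := H.miniversal.1 (Art.toBase A) A.res_surjective φ₀ y (Subsingleton.elim _ _)
  exact ⟨ψ, hψ⟩

lemma smooth_iff : IsSmoothFunctor (hR H.ring.carrier H.ring.res) ↔ IsSmoothFunctor (Def (k := k) (B₀ := B₀)) := by
  refine ⟨fun h B A μ hμ z => ?_, fun h B A μ hμ φ => ?_⟩
  · obtain ⟨φ, rfl⟩ := hull_surjective H A z
    obtain ⟨ψ, rfl⟩ := h μ hμ φ
    exact ⟨H.family.app B ψ, (H.family.natural μ ψ).symm⟩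
  · obtain ⟨z, hz⟩ := h μ hμ (H.family.app A φ)
    obtain ⟨ψ, hψ, -⟩ := H.miniversal.1 μ hμ φ z hz
    exact ⟨ψ, hψ⟩

theorem bounds [Module.Finite k (CotT.T1 P B₀)] :
    ringKrullDim H.ring.carrier ≤ ((Module.finrank k (CotT.T1 P B₀) : ℕ∞) : WithBot ℕ∞) ∧
      (Module.Finite k (CotT.T2 P B₀) →
        ((Module.finrank k (CotT.T1 P B₀) : ℕ∞) : WithBot ℕ∞) ≤
          ringKrullDim H.ring.carrier + ((Module.finrank k (CotT.T2 P B₀) : ℕ∞) : WithBot ℕ∞)) ∧
      (ringKrullDim H.ring.carrier = ((Module.finrank k (CotT.T1 P B₀) : ℕ∞) : WithBot ℕ∞) ↔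
        IsSmoothFunctor (Def (k := k) (B₀ := B₀))) := by
  rw [← finrank_cotangent P H]
  refine ⟨?_, fun hfin => ?_, ?_⟩
  · rw [← IsLocalRing.spanFinrank_maximalIdeal_eq_finrank_cotangentSpace]
    exact_mod_cast ringKrullDim_le_spanFinrank_maximalIdeal H.ring.carrier
  · have hk : Function.Surjective (algebraMap k k) := fun c => ⟨c, rfl⟩
    obtain ⟨d, x, hx0, hx⟩ := ArtLib.exists_coordinates hk H.ring
    obtain ⟨g, -, hsurj, -⟩ := ArtLib.exists_psSurj hk H.ring x hx0 hx
    haveI := CohenLib.isRegularLocalRing_mvPowerSeries (L := k) d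
    obtain ⟨P', _, _, _, g', hg', hI⟩ := Groth.Agent.ObsBoundLib.exists_minimal_presentation _
      (MvPowerSeries (Fin d) k) g hsurj rfl
    haveI := hfin
    exact_mod_cast (Groth.Agent.ObsBoundLib.estimates g' hg' hI H.family H.miniversal.1 (obsTheory P)).2.1
  · rw [← smooth_iff H, ← HilbObsTh.isRegular_iff_smooth, isRegularLocalRing_iff,
      IsLocalRing.spanFinrank_maximalIdeal_eq_finrank_cotangentSpace, eq_comm]
    norm_cast

end DefLib.AffPres
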