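import Groth.Agent.DefLib.AffPres.Class
import Groth.Prelude.Def_ArtFun3
import Mathlib.LinearAlgebra.TensorProduct.Basis

/-!
# `T²` as an obstruction space for deformations of an affine scheme
-/

set_option autoImplicit false
set_option maxHeartbeats 1000000
set_option linter.unusedSectionVars false
set_option backward.isDefEq.respectTransparency false

universe u

open CategoryTheory
open MvPolynomial IsLocalRing
open scoped TensorProduct

noncomputable section

namespace DefLib.AffPres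

section Tensor

variable {R : Type*} [CommRing R] {V M N : Type*} [AddCommGroup V] [Module R V] [AddCommGroup M] [Module R M]
  [AddCommGroup N] [Module R N]

lemma sum_tmul_basis_eq_zero {n : ℕ} (b : Module.Basis (Fin n) R M) (f : Fin n → V) :
    (∑ i, f i ⊗ₜ[R] b i) = 0 ↔ ∀ i, f i = 0 := by
  refine ⟨fun h l => ?_, fun h => Finset.sum_eq_zero fun i _ => by rw [h i, TensorProduct.zero_tmul]⟩
  have := congrArg ((TensorProduct.rid R V).toLinearMap ∘ₗ LinearMap.lTensor V (b.coord l)) h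
  rw [map_zero, map_sum, Finset.sum_eq_single l] at this
  · simpa using this
  · intro i _ hi
    simp [Finsupp.single_eq_of_ne hi.symm]
  · intro h'
    exact absurd (Finset.mem_univ l) h'

lemma sum_tmul_basis_map {n m : ℕ} (b : Module.Basis (Fin n) R M) (c : Module.Basis (Fin m) R N) (g : M →ₗ[R] N)
    (f : Fin n → V) (f' : Fin m → V) (hf : ∀ l, f' l = ∑ i, c.coord l (g (b i)) • f i) :
    (∑ l, f' l ⊗ₜ[R] c l) = LinearMap.lTensor V g (∑ i, f i ⊗ₜ[R] b i) := by
  rw [map_sum]
  simp only [hf, TensorProduct.sum_tmul, LinearMap.lTensor_tmul, TensorProduct.smul_tmul]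
  rw [Finset.sum_comm]
  refine Finset.sum_congr rfl fun i _ => ?_
  rw [← TensorProduct.tmul_sum]
  congr 1
  exact c.sum_repr _

end Tensor

variable {k : Type u} [Field k] {B₀ : Type u} [CommRing B₀] [Algebra k B₀] {ι σ : Type u}
  (P : Algebra.Presentation k B₀ ι σ) {C' C₀ : ArtFun.Art k k} (p : C' ⟶ C₀)

section Kernel

variable (hp : ArtFun.Art.IsSemismallExt p)

lemma res_of_mem {j : C'} (hj : j ∈ RingHom.ker p.toAlgHom) : C'.res j = 0 := by
  rw [← ArtFun.Art.res_app p j]
  exact (congrArg C₀.res (hj : p.toAlgHom j = 0)).trans (map_zero _)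

include hp in
lemma kill {c j : C'} (hc : C'.res c = 0) (hj : j ∈ RingHom.ker p.toAlgHom) : c * j = 0 := by
  rw [← Ideal.mem_bot (R := C'), ← hp.2]
  exact Ideal.mul_mem_mul ((ArtFun.Art.mem_maximalIdeal_iff C' c).2 hc) hj

include hp in
lemma smul_mem_eq {c j : C'} (hj : j ∈ RingHom.ker p.toAlgHom) : c * j = C'.res c • j := by
  have := kill p hp (c := c - algebraMap k C' (C'.res c)) (by rw [map_sub, AlgHom.commutes]; exact sub_self _) hj
  rw [sub_mul, sub_eq_zero] at this
  rw [this, Algebra.smul_def]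

include hp in
lemma lin_mul (ρ : C' →ₗ[k] k) {j : C'} (hj : j ∈ RingHom.ker p.toAlgHom) (b : C') :
    ρ (j * b) = ρ j * C'.res b := by
  rw [mul_comm j b, smul_mem_eq p hp hj, map_smul, smul_eq_mul, mul_comm]

include hp in
lemma finite_ker : Module.Finite k ↥(RingHom.ker p.toAlgHom) := by
  classical
  obtain ⟨s, hs⟩ := IsNoetherian.noetherian (RingHom.ker p.toAlgHom)
  have hsub : ∀ x ∈ (s : Set C'), x ∈ RingHom.ker p.toAlgHom := fun x hx => hs.le (Submodule.subset_span hx)
  refine ⟨⟨s.attach.image (fun x => (⟨x.1, hsub x.1 x.2⟩ : ↥(RingHom.ker p.toAlgHom))) , eq_top_iff.2 fun j _ => ?_⟩⟩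
  have key : ∀ x ∈ Submodule.span C' (s : Set C'), ∀ hx : x ∈ RingHom.ker p.toAlgHom,
      (⟨x, hx⟩ : ↥(RingHom.ker p.toAlgHom)) ∈ Submodule.span k
        ↑(s.attach.image (fun x => (⟨x.1, hsub x.1 x.2⟩ : ↥(RingHom.ker p.toAlgHom)))) := by
    intro x hx
    induction hx using Submodule.span_induction with
    | mem x hx =>
      exact fun _ => Submodule.subset_span (Finset.mem_image.2 ⟨⟨x, hx⟩, Finset.mem_attach _ _, rfl⟩)
    | zero => exact fun _ => Submodule.zero_mem _
    | add a b ha hb iha ihb =>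
      intro _
      exact Submodule.add_mem _ (iha (hs.le ha)) (ihb (hs.le hb))
    | smul c a ha iha =>
      intro hca
      have e : (⟨c • a, hca⟩ : ↥(RingHom.ker p.toAlgHom)) = C'.res c • (⟨a, hs.le ha⟩ : ↥(RingHom.ker p.toAlgHom)) :=
        Subtype.ext (smul_mem_eq p hp (hs.le ha))
      rw [e]
      exact Submodule.smul_mem _ _ (iha (hs.le ha))
  exact key j.1 (hs.ge j.2) j.2

/-- A basis of the kernel. -/
def bJ : Module.Basis (Fin (Module.finrank k ↥(RingHom.ker p.toAlgHom))) k ↥(RingHom.ker p.toAlgHom) :=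
  haveI := finite_ker p hp
  Module.finBasis k _

/-- The kernel as a subspace. -/
abbrev kerK : Submodule k C' :=
  Submodule.restrictScalars k (RingHom.ker p.toAlgHom : Submodule C' C')

/-- The coordinates of the kernel, extended to the ring. -/
def coordJ (i : Fin (Module.finrank k ↥(RingHom.ker p.toAlgHom))) : C' →ₗ[k] k :=
  (LinearMap.exists_extend (p := kerK p) ((bJ p hp).coord i)).choose

lemma coordJ_apply (i : Fin (Module.finrank k ↥(RingHom.ker p.toAlgHom))) (j : ↥(RingHom.ker p.toAlgHom)) :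
    coordJ p hp i j.1 = (bJ p hp).coord i j :=
  LinearMap.congr_fun (LinearMap.exists_extend (p := kerK p) ((bJ p hp).coord i)).choose_spec j

include hp in
lemma th_J {ρ : C' →ₗ[k] k} {z : MvPolynomial ι C'} (hz : z ∈ RingHom.ker p.toAlgHom • (⊤ : Submodule C' (MvPolynomial ι C')))
    (f : MvPolynomial ι C') : th P ρ (f * z) = qv P f * th P ρ z := by
  refine Submodule.smul_induction_on hz (fun j hj y _ => ?_) (fun a b ha hb => by rw [mul_add, map_add, map_add, ha, hb, mul_add])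
  rw [MvPolynomial.smul_eq_C_mul, mul_left_comm, th_C_mul P ρ (lin_mul p hp ρ hj),
    th_C_mul P ρ (lin_mul p hp ρ hj), mul_smul_comm]
  simp only [qv, map_mul]

include hp in
lemma th_congr {ρ ρ' : C' →ₗ[k] k} (h : ∀ j ∈ RingHom.ker p.toAlgHom, ρ j = ρ' j) {z : MvPolynomial ι C'}
    (hz : z ∈ RingHom.ker p.toAlgHom • (⊤ : Submodule C' (MvPolynomial ι C'))) : th P ρ z = th P ρ' z := by
  refine Submodule.smul_induction_on hz (fun j hj y _ => ?_) (fun a b ha hb => by rw [map_add, map_add, ha, hb])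
  rw [MvPolynomial.smul_eq_C_mul, th_C_mul P ρ (lin_mul p hp ρ hj), th_C_mul P ρ' (lin_mul p hp ρ' hj), h j hj]

lemma mem_J_iff (z : MvPolynomial ι C') :
    z ∈ RingHom.ker p.toAlgHom • (⊤ : Submodule C' (MvPolynomial ι C')) ↔
      MvPolynomial.map p.toAlgHom.toRingHom z = 0 := by
  rw [Ideal.smul_top_eq_map, ← RingHom.mem_ker, MvPolynomial.ker_map]
  rfl

lemma rd_of_J {z : MvPolynomial ι C'} (hz : z ∈ RingHom.ker p.toAlgHom • (⊤ : Submodule C' (MvPolynomial ι C'))) :
    rd P C' z = 0 :=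
  Unobs.red_smul_top P C'.res.toRingHom (Submodule.smul_mono (fun _ hj => res_of_mem p hj) le_rfl hz)

include hp in
lemma th_jF_J {ρ : C' →ₗ[k] k} (d : σ → MvPolynomial ι C')
    (hd : ∀ s, d s ∈ RingHom.ker p.toAlgHom • (⊤ : Submodule C' (MvPolynomial ι C'))) (h : σ →₀ MvPolynomial ι C') :
    th P ρ (jF d h) = Finsupp.linearCombination P.toExtension.Ring (fun s => th P ρ (d s)) (rdF P C' h) := by
  induction h using Finsupp.induction_linear with
  | zero => simp [Unobs.redF]
  | add a b ha hb => rw [map_add, map_add, ha, hb, rdF, Unobs.redF_add, map_add]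
  | single s f =>
    rw [Finsupp.linearCombination_single, rdF, Unobs.redF, Finsupp.mapRange_single,
      Finsupp.linearCombination_single, smul_eq_mul, th_J P p hp (hd s), Algebra.smul_def]

lemma jF_mem_J (d : σ → MvPolynomial ι C')
    (hd : ∀ s, d s ∈ RingHom.ker p.toAlgHom • (⊤ : Submodule C' (MvPolynomial ι C'))) (h : σ →₀ MvPolynomial ι C') :
    jF d h ∈ RingHom.ker p.toAlgHom • (⊤ : Submodule C' (MvPolynomial ι C')) := by
  rw [mem_J_iff, Unobs.map_lc, show (fun s => MvPolynomial.map p.toAlgHom.toRingHom (d s)) = fun _ => 0 from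
    funext fun s => (mem_J_iff p _).1 (hd s)]
  simp [Finsupp.linearCombination_apply]

lemma mul_mem_J {z : MvPolynomial ι C'} (hz : z ∈ RingHom.ker p.toAlgHom • (⊤ : Submodule C' (MvPolynomial ι C')))
    (f : MvPolynomial ι C') : f * z ∈ RingHom.ker p.toAlgHom • (⊤ : Submodule C' (MvPolynomial ι C')) := by
  rw [mem_J_iff, map_mul, (mem_J_iff p z).1 hz, mul_zero]

include hp in
lemma decompose {z : MvPolynomial ι C'} (hz : z ∈ RingHom.ker p.toAlgHom • (⊤ : Submodule C' (MvPolynomial ι C'))) :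
    ∃ u : Fin (Module.finrank k ↥(RingHom.ker p.toAlgHom)) → MvPolynomial ι C',
      z = ∑ i, C (bJ p hp i).1 * u i ∧ ∀ i, qv P (u i) = th P (coordJ p hp i) z := by
  suffices h : ∃ u : Fin (Module.finrank k ↥(RingHom.ker p.toAlgHom)) → MvPolynomial ι C',
      z = ∑ i, C (bJ p hp i).1 * u i by
    obtain ⟨u, hu⟩ := h
    refine ⟨u, hu, fun l => ?_⟩
    rw [hu, map_sum, Finset.sum_eq_single l]
    · rw [th_C_mul P _ (lin_mul p hp _ (bJ p hp l).2), coordJ_apply, Module.Basis.coord_apply,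
        Module.Basis.repr_self, Finsupp.single_eq_same, one_smul]
    · intro i _ hi
      rw [th_C_mul P _ (lin_mul p hp _ (bJ p hp i).2), coordJ_apply, Module.Basis.coord_apply,
        Module.Basis.repr_self, Finsupp.single_eq_of_ne hi.symm, zero_smul]
    · intro h
      exact absurd (Finset.mem_univ l) h
  refine Submodule.smul_induction_on hz (fun j hj y _ => ?_) ?_
  · refine ⟨fun i => C (algebraMap k C' ((bJ p hp).repr ⟨j, hj⟩ i)) * y, ?_⟩
    rw [MvPolynomial.smul_eq_C_mul]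
    have e : j = ∑ i, algebraMap k C' ((bJ p hp).repr ⟨j, hj⟩ i) * (bJ p hp i).1 := by
      have h0 := congrArg Subtype.val ((bJ p hp).sum_repr ⟨j, hj⟩)
      simp only [AddSubmonoidClass.coe_finset_sum] at h0
      refine h0.symm.trans (Finset.sum_congr rfl fun i _ => ?_)
      rw [← Algebra.smul_def]
      rfl
    conv_lhs => rw [e]
    rw [map_sum, Finset.sum_mul]
    refine Finset.sum_congr rfl fun i _ => ?_
    rw [map_mul]
    ring
  · rintro a b ⟨u, rfl⟩ ⟨v, rfl⟩
    exact ⟨u + v, by rw [← Finset.sum_add_distrib]; exact Finset.sum_congr rfl fun i _ => (mul_add _ _ _).symm⟩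

end Kernel

/-- Lifted relations along `p`. -/
structure Datum : Type u where
  /-- the lifts -/
  F : σ → MvPolynomial ι C'
  pres : IsPres P (push p F)

variable {P p} (D : Datum P p)

lemma rdF_add {A : ArtFun.Art k k} (a b : σ →₀ MvPolynomial ι A) : rdF P A (a + b) = rdF P A a + rdF P A b :=
  Unobs.redF_add P _ a b

lemma rdF_sub {A : ArtFun.Art k k} (a b : σ →₀ MvPolynomial ι A) : rdF P A (a - b) = rdF P A a - rdF P A b :=
  Unobs.redF_sub P _ a b

lemma rdF_smul {A : ArtFun.Art k k} (x : MvPolynomial ι A) (a : σ →₀ MvPolynomial ι A) :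
    rdF P A (x • a) = rd P A x • rdF P A a :=
  Unobs.redF_smul P _ x a

lemma Datum.red_eq (s : σ) : rd P C' (D.F s) = CotT.rel P s := (rd_push p _).symm.trans (D.pres.red_eq s)

lemma rdF_liftF (h : σ →₀ MvPolynomial ι C') :
    rdF P C₀ (Unobs.liftF p.toAlgHom.toRingHom h) = rdF P C' h := by
  ext s : 1
  simp [Unobs.redF, Unobs.liftF]
  exact rd_push p _

lemma Datum.map_jF (h : σ →₀ MvPolynomial ι C') :
    MvPolynomial.map p.toAlgHom.toRingHom (jF D.F h) = jF (push p D.F) (Unobs.liftF p.toAlgHom.toRingHom h) := by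
  rw [Unobs.map_lc]
  rfl

lemma Datum.exists_rel (hs : Function.Surjective p.toAlgHom) (t : CotT.relKer P) :
    ∃ h, rdF P C' h = t.1 ∧ jF D.F h ∈ RingHom.ker p.toAlgHom • (⊤ : Submodule C' (MvPolynomial ι C')) := by
  obtain ⟨h, h1, h2⟩ := D.pres.lifts t
  obtain ⟨h', rfl⟩ := Finsupp.mapRange_surjective _ (map_zero _)
    (MvPolynomial.map_surjective p.toAlgHom.toRingHom hs) h
  exact ⟨h', (rdF_liftF h').symm.trans h1, (mem_J_iff p _).2 ((D.map_jF h').trans h2)⟩

variable (hp : ArtFun.Art.IsSemismallExt p)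

include hp in
lemma Datum.val_zero (ρ : C' →ₗ[k] k) {h : σ →₀ MvPolynomial ι C'} (h0 : rdF P C' h = 0)
    (hj : jF D.F h ∈ RingHom.ker p.toAlgHom • (⊤ : Submodule C' (MvPolynomial ι C'))) : th P ρ (jF D.F h) = 0 := by
  have hm := D.pres.rel_mem_smul ((D.map_jF h).symm.trans ((mem_J_iff p _).1 hj))
    ((rdF_liftF h).trans h0)
  have key : ∀ g ∈ maximalIdeal C₀ • (LinearMap.ker (jF (push p D.F))).restrictScalars C₀,
      ∃ h', Unobs.liftF p.toAlgHom.toRingHom h' = g ∧ jF D.F h' = 0 := by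
    intro g hg
    refine Submodule.smul_induction_on hg (fun c hc y hy => ?_) ?_
    · obtain ⟨c', rfl⟩ := hp.1 c
      obtain ⟨y', rfl⟩ := Finsupp.mapRange_surjective _ (map_zero _)
        (MvPolynomial.map_surjective p.toAlgHom.toRingHom hp.1) y
      refine ⟨(C c' : MvPolynomial ι C') • y', ?_, ?_⟩
      · rw [Unobs.liftF_smul, map_C, ← MvPolynomial.algebraMap_eq, algebraMap_smul]
        rfl
      · have hyJ : jF D.F y' ∈ RingHom.ker p.toAlgHom • (⊤ : Submodule C' (MvPolynomial ι C')) :=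
          (mem_J_iff p _).2 ((D.map_jF y').trans hy)
        rw [map_smul, smul_eq_mul]
        refine Submodule.smul_induction_on hyJ (fun j hj' z _ => ?_) (fun a b ha hb => by rw [mul_add, ha, hb, add_zero])
        have hc' : C'.res c' = 0 := (ArtFun.Art.res_app p c').symm.trans ((ArtFun.Art.mem_maximalIdeal_iff C₀ _).1 hc)
        rw [MvPolynomial.smul_eq_C_mul, ← mul_assoc, ← C_mul, kill p hp hc' hj', C_0, zero_mul]
    · rintro _ _ ⟨a, rfl, ha⟩ ⟨b, rfl, hb⟩
      exact ⟨a + b, Unobs.liftF_add _ a b, by rw [map_add, ha, hb, add_zero]⟩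
  obtain ⟨h', e1, e2⟩ := key _ hm
  have hd : ∀ s, (h - h') s ∈ RingHom.ker p.toAlgHom • (⊤ : Submodule C' (MvPolynomial ι C')) := fun s => by
    rw [mem_J_iff]
    have := DFunLike.congr_fun e1 s
    simp only [Unobs.liftF, Finsupp.mapRange_apply] at this
    rw [Finsupp.sub_apply, map_sub, this, sub_self]
  rw [show jF D.F h = jF D.F (h - h') by rw [map_sub, e2, sub_zero], Finsupp.linearCombination_apply,
    Finsupp.sum, map_sum]
  refine Finset.sum_eq_zero fun s _ => ?_
  rw [smul_eq_mul, mul_comm, th_J P p hp (hd s), jF_eq_zero P D.red_eq, zero_mul]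

/-- The value on a relation. -/
def Datum.val (hp : ArtFun.Art.IsSemismallExt p) (ρ : C' →ₗ[k] k) (t : CotT.relKer P) : B₀ :=
  th P ρ (jF D.F (D.exists_rel hp.1 t).choose)

lemma Datum.val_eq (ρ : C' →ₗ[k] k) {t : CotT.relKer P} {h : σ →₀ MvPolynomial ι C'} (h1 : rdF P C' h = t.1)
    (h2 : jF D.F h ∈ RingHom.ker p.toAlgHom • (⊤ : Submodule C' (MvPolynomial ι C'))) :
    D.val hp ρ t = th P ρ (jF D.F h) := by
  obtain ⟨e1, e2⟩ := (D.exists_rel hp.1 t).choose_spec
  rw [Datum.val, ← sub_eq_zero, ← map_sub, ← map_sub]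
  exact D.val_zero hp ρ (by rw [rdF_sub]; exact sub_eq_zero.2 (e1.trans h1.symm))
    (by rw [map_sub]; exact sub_mem e2 h2)

/-- The value as a linear form on relations. -/
def Datum.phi (ρ : C' →ₗ[k] k) : CotT.relKer P →ₗ[P.toExtension.Ring] B₀ :=
  { toFun := D.val hp ρ
    map_add' := fun t t' => by
      obtain ⟨e1, e2⟩ := (D.exists_rel hp.1 t).choose_spec
      obtain ⟨e1', e2'⟩ := (D.exists_rel hp.1 t').choose_spec
      rw [D.val_eq hp ρ (h := (D.exists_rel hp.1 t).choose + (D.exists_rel hp.1 t').choose)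
        (by rw [rdF_add]; exact congrArg₂ (· + ·) e1 e1') (by rw [map_add]; exact add_mem e2 e2'),
        map_add, map_add]
      rfl
    map_smul' := fun c t => by
      obtain ⟨e1, e2⟩ := (D.exists_rel hp.1 t).choose_spec
      obtain ⟨c, rfl⟩ := rd_surjective P C' c
      rw [D.val_eq hp ρ (h := c • (D.exists_rel hp.1 t).choose)
        (by rw [rdF_smul]; exact congrArg _ e1)
        (by rw [map_smul, smul_eq_mul]; exact mul_mem_J p e2 c),
        map_smul, smul_eq_mul, th_J P p hp e2, RingHom.id_apply, Algebra.smul_def]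
      rfl }

lemma Datum.phi_triv (ρ : C' →ₗ[k] k) : ∀ y ∈ CotT.trivRel P, ∀ hy : y ∈ CotT.relKer P, D.phi hp ρ ⟨y, hy⟩ = 0 := by
  intro y hy
  induction hy using Submodule.span_induction with
  | zero => exact fun _ => map_zero (D.phi hp ρ)
  | add a b ha hb iha ihb =>
    intro _
    have := map_add (D.phi hp ρ) ⟨a, CotT.trivRel_le_relKer P ha⟩ ⟨b, CotT.trivRel_le_relKer P hb⟩
    rw [iha, ihb, add_zero] at this
    exact this
  | smul c a ha iha =>
    intro _
    have := map_smul (D.phi hp ρ) c ⟨a, CotT.trivRel_le_relKer P ha⟩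
    rw [iha, smul_zero] at this
    exact this
  | mem y hy =>
    intro hy'
    obtain ⟨a₀, b₀, rfl⟩ := hy
    obtain ⟨a, rfl⟩ := rdF_surjective P C' a₀
    obtain ⟨b, rfl⟩ := rdF_surjective P C' b₀
    let h := jF D.F a • b - jF D.F b • a
    have h0 : jF D.F h = 0 := by simp [h, mul_comm]
    show D.val hp ρ _ = 0
    rw [D.val_eq hp ρ (h := h) (by
      show rdF P C' (jF D.F a • b - jF D.F b • a) = _
      rw [rdF_sub, rdF_smul, rdF_smul]
      exact congrArg₂ (· - ·) (congrArg (· • _) (rd_jF D.red_eq a)) (congrArg (· • _) (rd_jF D.red_eq b)))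
      (by rw [h0]; exact Submodule.zero_mem _), h0, map_zero]

/-- The value as a linear form on `L₂`. -/
def Datum.Phi (ρ : C' →ₗ[k] k) : CotT.L2 P →ₗ[B₀] B₀ :=
  Submodule.liftQ _ ((D.phi hp ρ).liftBaseChange B₀) (by
    rw [LinearMap.range_le_ker_iff]
    refine TensorProduct.AlgebraTensorModule.ext fun b t => ?_
    simp only [LinearMap.coe_comp, Function.comp_apply, LinearMap.baseChange_tmul, Submodule.coe_subtype,
      LinearMap.zero_apply, LinearMap.liftBaseChange_tmul]
    rw [show D.phi hp ρ t.1 = 0 from D.phi_triv hp ρ _ t.2 t.1.2, smul_zero])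

lemma Datum.Phi_mk (ρ : C' →ₗ[k] k) (t : CotT.relKer P) :
    D.Phi hp ρ (Submodule.Quotient.mk ((1 : B₀) ⊗ₜ t)) = D.val hp ρ t := by
  show (D.phi hp ρ).liftBaseChange B₀ ((1 : B₀) ⊗ₜ t) = _
  rw [LinearMap.liftBaseChange_tmul, one_smul]
  rfl

lemma ext_L2 {Φ Ψ : CotT.L2 P →ₗ[B₀] B₀}
    (h : ∀ t : CotT.relKer P, Φ (Submodule.Quotient.mk ((1 : B₀) ⊗ₜ t)) = Ψ (Submodule.Quotient.mk ((1 : B₀) ⊗ₜ t))) :
    Φ = Ψ := by
  refine Submodule.linearMap_qext _ (TensorProduct.AlgebraTensorModule.ext fun b t => ?_)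
  show Φ (Submodule.Quotient.mk (b ⊗ₜ t)) = Ψ (Submodule.Quotient.mk (b ⊗ₜ t))
  rw [← mul_one b, ← smul_eq_mul, ← TensorProduct.smul_tmul', Submodule.Quotient.mk_smul, map_smul, map_smul, h]

/-- The class of the value in `T²`. -/
def Datum.cls (ρ : C' →ₗ[k] k) : CotT.T2 P B₀ := Submodule.Quotient.mk (D.Phi hp ρ)

lemma Datum.cls_add (ρ ρ' : C' →ₗ[k] k) : D.cls hp (ρ + ρ') = D.cls hp ρ + D.cls hp ρ' := by
  refine congrArg Submodule.Quotient.mk (ext_L2 fun t => ?_)
  rw [LinearMap.add_apply, Datum.Phi_mk, Datum.Phi_mk, Datum.Phi_mk]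
  exact th_add P ρ ρ' _

lemma Datum.cls_smul (c : k) (ρ : C' →ₗ[k] k) : D.cls hp (c • ρ) = c • D.cls hp ρ := by
  refine congrArg Submodule.Quotient.mk (ext_L2 fun t => ?_)
  rw [LinearMap.smul_apply, Datum.Phi_mk, Datum.Phi_mk]
  exact th_smul P c ρ _

/-- The class as a linear map in the functional. -/
def Datum.clsL : (C' →ₗ[k] k) →ₗ[k] CotT.T2 P B₀ :=
  { toFun := D.cls hp, map_add' := D.cls_add hp, map_smul' := D.cls_smul hp }

lemma Datum.cls_congr {ρ ρ' : C' →ₗ[k] k} (h : ∀ j ∈ RingHom.ker p.toAlgHom, ρ j = ρ' j) :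
    D.cls hp ρ = D.cls hp ρ' := by
  refine congrArg Submodule.Quotient.mk (ext_L2 fun t => ?_)
  rw [Datum.Phi_mk, Datum.Phi_mk]
  exact th_congr P p hp h (D.exists_rel hp.1 t).choose_spec.2

/-- Changing the lifts changes the value by the corresponding form. -/
lemma Datum.val_change (D' : Datum P p) (hd : ∀ s, D'.F s - D.F s ∈ RingHom.ker p.toAlgHom • (⊤ : Submodule C' (MvPolynomial ι C')))
    (ρ : C' →ₗ[k] k) (t : CotT.relKer P) :
    D'.val hp ρ t = D.val hp ρ t +
      Finsupp.linearCombination P.toExtension.Ring (fun s => th P ρ (D'.F s - D.F s)) t.1 := by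
  obtain ⟨e1, e2⟩ := (D.exists_rel hp.1 t).choose_spec
  have hj : ∀ h, jF D'.F h = jF D.F h + jF (fun s => D'.F s - D.F s) h := fun h => by
    induction h using Finsupp.induction_linear with
    | zero => simp
    | add a b ha hb => rw [map_add, map_add, map_add, ha, hb]; abel
    | single s f => simp [mul_sub]
  rw [D'.val_eq hp ρ e1 (by rw [hj]; exact add_mem e2 (jF_mem_J p _ hd _)), hj, map_add, th_jF_J P p hp _ hd, e1]
  rfl

lemma mem_range_d2Star (Φ : CotT.L2 P →ₗ[B₀] B₀) :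
    Φ ∈ LinearMap.range (CotT.d2Star P B₀) ↔ ∃ c : σ → B₀, ∀ t : CotT.relKer P,
      Φ (Submodule.Quotient.mk ((1 : B₀) ⊗ₜ t)) = Finsupp.linearCombination P.toExtension.Ring c t.1 := by
  refine ⟨?_, fun ⟨c, hc⟩ => ⟨lin1 P c, ext_L2 fun t => ?_⟩⟩
  · rintro ⟨ψ, rfl⟩
    refine ⟨fun s => ψ (CotT.L1basis P s), fun t => ?_⟩
    rw [CotT.d2Star_apply, LinearMap.comp_apply, CotT.d2_mk_tmul, ← lin1_one_tmul]
    refine congrArg (fun f : CotT.L1 P →ₗ[B₀] B₀ => f _) ?_
    exact ((CotT.L1basis P).ext fun s => by rw [lin1, Module.Basis.constr_basis]).symm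
  · rw [CotT.d2Star_apply, LinearMap.comp_apply, CotT.d2_mk_tmul, lin1_one_tmul, hc]

lemma Datum.cls_change (D' : Datum P p) (hd : ∀ s, D'.F s - D.F s ∈ RingHom.ker p.toAlgHom • (⊤ : Submodule C' (MvPolynomial ι C')))
    (ρ : C' →ₗ[k] k) : D'.cls hp ρ = D.cls hp ρ := by
  refine (Submodule.Quotient.eq _).2 ((mem_range_d2Star _).2 ⟨fun s => th P ρ (D'.F s - D.F s), fun t => ?_⟩)
  rw [LinearMap.sub_apply, Datum.Phi_mk, Datum.Phi_mk, D.val_change hp D' hd, add_sub_cancel_left]

/-- The lifted relations present a deformation over the thickening iff the classes vanish, up to changing the lifts. -/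
theorem Datum.exists_isPres (h : ∀ i, D.cls hp (coordJ p hp i) = 0) :
    ∃ G, IsPres P G ∧ push p G = push p D.F := by
  choose c hc using fun i => (mem_range_d2Star _).1 ((Submodule.Quotient.mk_eq_zero _).1 (h i))
  choose l hl using fun i s => P.toExtension.algebraMap_surjective (c i s)
  choose w hw using fun i s => rd_surjective P C' (l i s)
  let z : σ → MvPolynomial ι C' := fun s => ∑ i, C (bJ p hp i).1 * w i s
  have hz : ∀ s, z s ∈ RingHom.ker p.toAlgHom • (⊤ : Submodule C' (MvPolynomial ι C')) := fun s =>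
    Submodule.sum_mem _ fun i _ => by
      rw [← MvPolynomial.smul_eq_C_mul]
      exact Submodule.smul_mem_smul (bJ p hp i).2 Submodule.mem_top
  have hzc : ∀ l s, th P (coordJ p hp l) (z s) = c l s := fun l' s => by
    rw [map_sum, Finset.sum_eq_single l']
    · rw [th_C_mul P _ (lin_mul p hp _ (bJ p hp l').2), coordJ_apply, Module.Basis.coord_apply,
        Module.Basis.repr_self, Finsupp.single_eq_same, one_smul, qv, hw, hl]
    · intro i _ hi
      rw [th_C_mul P _ (lin_mul p hp _ (bJ p hp i).2), coordJ_apply, Module.Basis.coord_apply,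
        Module.Basis.repr_self, Finsupp.single_eq_of_ne hi.symm, zero_smul]
    · intro h'
      exact absurd (Finset.mem_univ l') h'
  let G : σ → MvPolynomial ι C' := fun s => D.F s - z s
  have hG : push p G = push p D.F := funext fun s => by
    show MvPolynomial.map _ (D.F s - z s) = _
    rw [map_sub, (mem_J_iff p _).1 (hz s), sub_zero]
  let D' : Datum P p := ⟨G, hG ▸ D.pres⟩
  have hd : ∀ s, D'.F s - D.F s ∈ RingHom.ker p.toAlgHom • (⊤ : Submodule C' (MvPolynomial ι C')) := fun s => by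
    show D.F s - z s - D.F s ∈ _
    rw [sub_sub_cancel_left]
    exact neg_mem (hz s)
  refine ⟨G, ⟨D'.red_eq, fun t => ?_⟩, hG⟩
  obtain ⟨h₀, e1, e2⟩ := D'.exists_rel hp.1 t
  obtain ⟨u, hu, hqu⟩ := decompose P p hp e2
  have hq0 : ∀ i, qv P (u i) = 0 := fun i => by
    have hval : D'.val hp (coordJ p hp i) t = 0 := by
      rw [D.val_change hp D' hd, ← Datum.Phi_mk, hc]
      have : (fun s => th P (coordJ p hp i) (D'.F s - D.F s)) = -(c i) := funext fun s => by
        show th P _ (D.F s - z s - D.F s) = - c i s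
        rw [sub_sub_cancel_left, map_neg, hzc]
      rw [this]
      simp [Finsupp.linearCombination_apply, Finsupp.sum]
    rw [hqu, ← D'.val_eq hp _ e1 e2, hval]
  choose v hv0 hv using fun i => exists_rel_C_mul P D'.red_eq (res_of_mem p (bJ p hp i).2)
    (fun c' hc' => kill p hp hc' (bJ p hp i).2) (hq0 i)
  refine ⟨h₀ - ∑ i, v i, ?_, ?_⟩
  · have hs : rdF P C' (∑ i, v i) = 0 := by
      refine Finset.sum_induction _ (fun g => rdF P C' g = 0) (fun a b ha hb => ?_) ?_ (fun i _ => hv0 i)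
      · rw [rdF_add, ha, hb, add_zero]
      · simp [Unobs.redF]
    rw [rdF_sub, hs, sub_zero, e1]
  · rw [map_sub, map_sum]
    show jF D'.F h₀ - ∑ i, jF D'.F (v i) = 0
    simp only [hv]
    rw [← hu, sub_self]

theorem Datum.cls_eq_zero_of_isPres (hG : IsPres P D.F) (ρ : C' →ₗ[k] k) : D.cls hp ρ = 0 := by
  refine (Submodule.Quotient.mk_eq_zero _).2 ((mem_range_d2Star _).2 ⟨0, fun t => ?_⟩)
  obtain ⟨h, h1, h2⟩ := hG.lifts t
  rw [Datum.Phi_mk, D.val_eq hp ρ h1 (by rw [h2]; exact Submodule.zero_mem _), h2, map_zero]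
  simp [Finsupp.linearCombination_apply]

variable (p) in
/-- A datum over a class of deformations. -/
lemma exists_datum (hs : Function.Surjective p.toAlgHom) (u : (Def (k := k) (B₀ := B₀)).obj C₀) :
    ∃ D : Datum P p, push p D.F = (exists_presents (P := P) u).choose := by
  choose F hF using fun s => MvPolynomial.map_surjective p.toAlgHom.toRingHom hs ((exists_presents (P := P) u).choose s)
  exact ⟨⟨F, (funext hF : push p F = _) ▸ (exists_presents (P := P) u).choose_spec.1⟩, funext hF⟩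

/-- The obstruction. -/
def obs (u : (Def (k := k) (B₀ := B₀)).obj C₀) : CotT.T2 P B₀ ⊗[k] ↥(RingHom.ker p.toAlgHom) :=
  ∑ i, (exists_datum (P := P) p hp.1 u).choose.clsL hp (coordJ p hp i) ⊗ₜ bJ p hp i

lemma obs_eq_zero_iff' (u : (Def (k := k) (B₀ := B₀)).obj C₀) :
    obs (P := P) hp u = 0 ↔ ∀ i, (exists_datum (P := P) p hp.1 u).choose.cls hp (coordJ p hp i) = 0 :=
  sum_tmul_basis_eq_zero (bJ p hp) fun i => (exists_datum (P := P) p hp.1 u).choose.clsL hp (coordJ p hp i)

theorem obs_eq_zero_iff (u : (Def (k := k) (B₀ := B₀)).obj C₀) :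
    obs (P := P) hp u = 0 ↔ ∃ u', (Def (k := k) (B₀ := B₀)).map p u' = u := by
  rw [obs_eq_zero_iff']
  have hD := (exists_datum (P := P) p hp.1 u).choose_spec
  have hu := (exists_presents (P := P) u).choose_spec
  set D := (exists_datum (P := P) p hp.1 u).choose
  refine ⟨fun h => ?_, ?_⟩
  · obtain ⟨G, hG, hpG⟩ := D.exists_isPres hp h
    refine ⟨(sch hG).cl, ?_⟩
    have h1 := presents_map p hp.1 (⟨hG, rfl⟩ : Presents P G (sch hG).cl)
    rw [hpG, hD] at h1
    exact h1.2.trans hu.2.symm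
  · rintro ⟨u', hu'⟩ i
    obtain ⟨G, hG, hpG⟩ := exists_lift_presents p hp.1 hu u' hu'
    let D' : Datum P p := ⟨G, by rw [hpG]; exact hu.1⟩
    rw [← D'.cls_eq_zero_of_isPres hp hG.1 (coordJ p hp i)]
    refine D'.cls_change hp D (fun s => ?_) _
    rw [mem_J_iff, map_sub, sub_eq_zero]
    exact congrFun (hD.trans hpG.symm) s

theorem obs_quot (K : Ideal C') (hK : K ≤ IsLocalRing.maximalIdeal C') (hKJ : K ≤ RingHom.ker p.toAlgHom)
    (hq : ArtFun.Art.IsSemismallExt (ArtFun.Art.quotFactor hK p hKJ)) (u : (Def (k := k) (B₀ := B₀)).obj C₀) :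
    obs (P := P) hq u = LinearMap.lTensor (CotT.T2 P B₀) ((ArtFun.Art.kerToQuot hK p hKJ).restrictScalars k)
      (obs (P := P) hp u) := by
  let q := ArtFun.Art.quotFactor hK p hKJ
  let π := ArtFun.Art.quotMk C' K hK
  have hD := (exists_datum (P := P) p hp.1 u).choose_spec
  have hDq := (exists_datum (P := P) q hq.1 u).choose_spec
  set D := (exists_datum (P := P) p hp.1 u).choose with hDdef
  set Dq := (exists_datum (P := P) q hq.1 u).choose with hDqdef
  have hpq : ∀ f : MvPolynomial ι C', MvPolynomial.map q.toAlgHom.toRingHom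
      (MvPolynomial.map π.toAlgHom.toRingHom f) = MvPolynomial.map p.toAlgHom.toRingHom f := fun f => by
    rw [MvPolynomial.map_map]
    rfl
  let D₁ : Datum P q := ⟨push π D.F, (funext fun s => hpq (D.F s) : push q (push π D.F) = push p D.F).symm ▸ D.pres⟩
  have h₁ : ∀ ρ, Dq.cls hq ρ = D.cls hp (ρ ∘ₗ π.toAlgHom.toLinearMap) := by
    intro ρ
    have hd : ∀ s, Dq.F s - D₁.F s ∈ RingHom.ker q.toAlgHom • (⊤ : Submodule _ (MvPolynomial ι _)) := fun s => by
      rw [mem_J_iff, map_sub, sub_eq_zero]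
      exact (congrFun (hDq.trans hD.symm) s).trans (hpq _).symm
    rw [D₁.cls_change hq Dq hd]
    refine congrArg Submodule.Quotient.mk (ext_L2 fun t => ?_)
    rw [Datum.Phi_mk, Datum.Phi_mk]
    obtain ⟨e1, e2⟩ := (D.exists_rel hp.1 t).choose_spec
    have e0 : jF D₁.F (Unobs.liftF π.toAlgHom.toRingHom (D.exists_rel hp.1 t).choose) =
        MvPolynomial.map π.toAlgHom.toRingHom (jF D.F (D.exists_rel hp.1 t).choose) := by
      rw [Unobs.map_lc]
      rfl
    rw [D₁.val_eq hq ρ (h := Unobs.liftF π.toAlgHom.toRingHom (D.exists_rel hp.1 t).choose)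
      ((rdF_liftF (p := π) _).trans e1) (by rw [mem_J_iff, e0, hpq]; exact (mem_J_iff p _).1 e2), e0, th_map]
    rfl
  have hcl : ∀ l, Dq.clsL hq (coordJ q hq l) =
      ∑ i, ((bJ q hq).coord l (ArtFun.Art.kerToQuot hK p hKJ (bJ p hp i))) • D.clsL hp (coordJ p hp i) := by
    intro l
    show Dq.cls hq _ = _
    rw [h₁]
    show D.clsL hp _ = _
    simp only [← map_smul, ← map_sum]
    refine D.cls_congr hp fun j hj => ?_
    show coordJ q hq l (ArtFun.Art.kerToQuot hK p hKJ ⟨j, hj⟩).1 = _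
    rw [coordJ_apply, LinearMap.sum_apply]
    conv_lhs => rw [← (bJ p hp).sum_repr ⟨j, hj⟩, map_sum, map_sum]
    refine Finset.sum_congr rfl fun i _ => ?_
    rw [LinearMap.smul_apply, show coordJ p hp i j = (bJ p hp).coord i ⟨j, hj⟩ from coordJ_apply p hp i ⟨j, hj⟩,
      map_smul, map_smul, smul_eq_mul, smul_eq_mul, Module.Basis.coord_apply, Module.Basis.coord_apply, mul_comm]
  exact sum_tmul_basis_map (bJ p hp) (bJ q hq) ((ArtFun.Art.kerToQuot hK p hKJ).restrictScalars k)
    (fun i => D.clsL hp (coordJ p hp i)) (fun l => Dq.clsL hq (coordJ q hq l)) hcl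

variable (P) in
/-- `T²` is an obstruction space for the deformation functor. -/
def obsTheory : ArtFun.ObsTheory (Def (k := k) (B₀ := B₀)) (CotT.T2 P B₀) :=
  { obs := fun _ hp u => obs (P := P) hp u
    obs_eq_zero_iff := fun _ hp u => obs_eq_zero_iff hp u
    obs_quot := fun _ hp K hK hKJ hq u => obs_quot hp K hK hKJ hq u }

end DefLib.AffPres
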