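import Groth.Agent.DefLib.AffPres.Basic
import Groth.Agent.DefLib.AffineExt

/-!
# The deformation functor of an affine scheme through presentations
-/

set_option autoImplicit false
set_option maxHeartbeats 1000000
set_option linter.unusedSectionVars false
set_option backward.isDefEq.respectTransparency false

universe u

open CategoryTheory CategoryTheory.Limits AlgebraicGeometry
open MvPolynomial IsLocalRing

noncomputable section

namespace DefLib.AffPres

variable {k : Type u} [Field k] {B₀ : Type u} [CommRing B₀] [Algebra k B₀] {ι σ : Type u}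
  (P : Algebra.Presentation k B₀ ι σ)

/-- The deformation functor of the affine scheme. -/
abbrev Def : ArtFun.Art k k ⥤ Type (u + 1) :=
  ArtFun.defFunctor (Λ := k) (Spec (CommRingCat.of B₀)) (Spec.map (CommRingCat.ofHom (algebraMap k B₀)))

variable {P} {A A' : ArtFun.Art k k}

/-- The deformation of a presentation. -/
def sch {F : σ → MvPolynomial ι A} (hF : IsPres P F) :
    ArtFun.DefSch (Spec (CommRingCat.of B₀)) (Spec.map (CommRingCat.ofHom (algebraMap k B₀))) A :=
  { total := Spec (CommRingCat.of (Alg F))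
    f := Spec.map (CommRingCat.ofHom (algebraMap A (Alg F)))
    flat := Flat.SpecMap_iff.2 (RingHom.flat_algebraMap_iff.2 hF.flat)
    i := Spec.map (CommRingCat.ofHom hF.q)
    isPullback := (isPullback_SpecMap_of_isPushout _ _ _ _
      (DefLib.isPushout_of_surjective (CommRingCat.ofHom A.res.toRingHom)
        (CommRingCat.ofHom (algebraMap A (Alg F))) (CommRingCat.ofHom (algebraMap k B₀)) (CommRingCat.ofHom hF.q)
        (by ext a; exact (hF.q_algebraMap a).symm) A.res_surjective hF.q_surjective hF.q_ker)).flip }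

variable (P) in
/-- Relations over `A` presenting a class of deformations. -/
def Presents (F : σ → MvPolynomial ι A) (z : (Def (k := k) (B₀ := B₀)).obj A) : Prop :=
  ∃ hF : IsPres P F, z = (sch hF).cl

theorem exists_presents (z : (Def (k := k) (B₀ := B₀)).obj A) : ∃ F, Presents P F z := by
  induction z using Quotient.inductionOn with
  | h 𝒳 =>
  haveI := DefLib.isAffine_total B₀ 𝒳
  let B : CommRingCat.{u} := Γ(𝒳.total, ⊤)
  let e : 𝒳.total ≅ Spec B := 𝒳.total.isoSpec
  let φ : CommRingCat.of A ⟶ B := Spec.preimage (e.inv ≫ 𝒳.f)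
  have hφ : Spec.map φ = e.inv ≫ 𝒳.f := Spec.map_preimage _
  let qB : B ⟶ CommRingCat.of B₀ := Spec.preimage (𝒳.i ≫ e.hom)
  have hqB : Spec.map qB = 𝒳.i ≫ e.hom := Spec.map_preimage _
  have sqB : IsPushout φ (CommRingCat.ofHom A.res.toRingHom) qB (CommRingCat.ofHom (algebraMap k B₀)) := by
    refine DefLib.isPushout_of_isPullback_SpecMap ?_
    refine 𝒳.isPullback.of_iso (Iso.refl _) e (Iso.refl _) (Iso.refl _) ?_ ?_ ?_ ?_
    · simp [hqB]
    · simp
    · simp [hφ]
    · simp; rfl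
  obtain ⟨hqs, hqk⟩ := DefLib.surjective_ker_of_isPushout sqB.flip A.res_surjective
  letI : Algebra A B := φ.hom.toAlgebra
  haveI : Module.Flat A B := by
    have : Flat (Spec.map φ) := by rw [hφ]; infer_instance
    exact RingHom.flat_algebraMap_iff.1 (Flat.SpecMap_iff.1 this)
  haveI : Module.Free A B := DefLib.free_of_flat_of_nilpotent (nilpotent_maximalIdeal A)
  obtain ⟨F, hF, θ, hθ⟩ := exists_isPres (P := P) qB.hom hqs (fun a => congr(($(sqB.w)) a)) hqk
  refine ⟨F, hF, Quotient.sound ⟨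
    { iso := e ≪≫ Scheme.Spec.mapIso θ.toRingEquiv.toCommRingCatIso.op
      hom_f := ?_
      i_hom := ?_ }⟩⟩
  · show (e.hom ≫ Spec.map θ.toRingEquiv.toCommRingCatIso.hom) ≫ Spec.map _ = 𝒳.f
    rw [Category.assoc, ← Spec.map_comp,
      show CommRingCat.ofHom (algebraMap A (Alg F)) ≫ θ.toRingEquiv.toCommRingCatIso.hom = φ by
        ext a; exact θ.commutes a,
      hφ, Iso.hom_inv_id_assoc]
  · show 𝒳.i ≫ (e.hom ≫ Spec.map θ.toRingEquiv.toCommRingCatIso.hom) = Spec.map _
    rw [← Category.assoc, ← hqB, ← Spec.map_comp,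
      show θ.toRingEquiv.toCommRingCatIso.hom ≫ qB = CommRingCat.ofHom hF.q from CommRingCat.hom_ext (RingHom.ext fun a => hθ a)]

theorem exists_algEquiv_of_presents {F G : σ → MvPolynomial ι A} {z : (Def (k := k) (B₀ := B₀)).obj A}
    (hF : Presents P F z) (hG : Presents P G z) :
    ∃ θ : Alg F ≃ₐ[A] Alg G, ∀ e, hG.1.q (θ e) = hF.1.q e := by
  obtain ⟨hF, rfl⟩ := hF
  obtain ⟨hG, he⟩ := hG
  obtain ⟨ψ⟩ := Quotient.exact (s := ArtFun.DefSch.setoid _ _ _) he.symm
  let w : CommRingCat.of (Alg F) ⟶ CommRingCat.of (Alg G) := Spec.preimage ψ.iso.hom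
  let v : CommRingCat.of (Alg G) ⟶ CommRingCat.of (Alg F) := Spec.preimage ψ.iso.inv
  have hw : Spec.map w = ψ.iso.hom := Spec.map_preimage _
  have hv : Spec.map v = ψ.iso.inv := Spec.map_preimage _
  have h1 : CommRingCat.ofHom (algebraMap A (Alg F)) ≫ w = CommRingCat.ofHom (algebraMap A (Alg G)) :=
    Spec.map_injective (by rw [Spec.map_comp, hw]; exact ψ.hom_f)
  have h2 : w ≫ CommRingCat.ofHom hG.q = CommRingCat.ofHom hF.q :=
    Spec.map_injective (by rw [Spec.map_comp, hw]; exact ψ.i_hom)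
  have h3 : w ≫ v = 𝟙 _ := Spec.map_injective (by
    rw [Spec.map_comp, Spec.map_id, hw, hv]; exact ψ.iso.inv_hom_id)
  have h4 : v ≫ w = 𝟙 _ := Spec.map_injective (by
    rw [Spec.map_comp, Spec.map_id, hw, hv]; exact ψ.iso.hom_inv_id)
  let wa : Alg F →ₐ[A] Alg G := { w.hom with commutes' := fun a => congr(($h1) a) }
  have hb : Function.Bijective wa :=
    ⟨Function.LeftInverse.injective (g := v.hom) fun x => congr(($h3) x),
      Function.RightInverse.surjective (g := v.hom) fun x => congr(($h4) x)⟩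
  exact ⟨AlgEquiv.ofBijective wa hb, fun e => congr(($h2) e)⟩

theorem presents_of_algEquiv {F G : σ → MvPolynomial ι A} {z : (Def (k := k) (B₀ := B₀)).obj A}
    (hF : Presents P F z) (hG : IsPres P G) (θ : Alg F ≃ₐ[A] Alg G) (hθ : ∀ e, hG.q (θ e) = hF.1.q e) :
    Presents P G z := by
  obtain ⟨hF, rfl⟩ := hF
  refine ⟨hG, Quotient.sound ⟨
    { iso := Scheme.Spec.mapIso θ.symm.toRingEquiv.toCommRingCatIso.op
      hom_f := ?_
      i_hom := ?_ }⟩⟩
  · show Spec.map θ.symm.toRingEquiv.toCommRingCatIso.hom ≫ Spec.map _ = Spec.map _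
    rw [← Spec.map_comp]
    congr 1
    ext a
    exact θ.symm.commutes a
  · show Spec.map _ ≫ Spec.map θ.symm.toRingEquiv.toCommRingCatIso.hom = Spec.map _
    rw [← Spec.map_comp]
    congr 1
    refine CommRingCat.hom_ext (RingHom.ext fun a => ?_)
    show hF.q (θ.symm a) = hG.q a
    rw [← hθ, θ.apply_symm_apply]

/-- Base change of relations. -/
abbrev push (μ : A ⟶ A') (F : σ → MvPolynomial ι A) : σ → MvPolynomial ι A' :=
  fun s => MvPolynomial.map μ.toAlgHom.toRingHom (F s)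

lemma rd_push (μ : A ⟶ A') (f : MvPolynomial ι A) :
    rd P A' (MvPolynomial.map μ.toAlgHom.toRingHom f) = rd P A f := by
  show MvPolynomial.map _ (MvPolynomial.map _ f) = MvPolynomial.map _ f
  rw [MvPolynomial.map_map]
  exact congrArg (fun r => MvPolynomial.map r f) (RingHom.ext fun a => ArtFun.Art.res_app μ a)

lemma isPres_push (μ : A ⟶ A') {F : σ → MvPolynomial ι A} (hF : IsPres P F) : IsPres P (push μ F) := by
  refine ⟨fun s => (rd_push μ _).trans (hF.red_eq s), fun t => ?_⟩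
  obtain ⟨h, h1, h2⟩ := hF.lifts t
  refine ⟨Unobs.liftF μ.toAlgHom.toRingHom h, ?_, ?_⟩
  · rw [← h1]
    ext s : 1
    simp [Unobs.redF, Unobs.liftF]
    exact rd_push μ _
  · rw [← map_zero (MvPolynomial.map μ.toAlgHom.toRingHom), ← h2, Unobs.map_lc]
    rfl

theorem presents_map (μ : A ⟶ A') (hμ : Function.Surjective μ) {F : σ → MvPolynomial ι A}
    {z : (Def (k := k) (B₀ := B₀)).obj A} (hF : Presents P F z) :
    Presents P (push μ F) ((Def (k := k) (B₀ := B₀)).map μ z) := by
  obtain ⟨hF, rfl⟩ := hF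
  have hF' := isPres_push μ hF
  refine ⟨hF', Quotient.sound ?_⟩
  let p' : CommRingCat.of A ⟶ CommRingCat.of A' := CommRingCat.ofHom μ.toAlgHom.toRingHom
  let π₀ : MvPolynomial ι A →+* Alg (push μ F) :=
    (Ideal.Quotient.mk _).comp (MvPolynomial.map μ.toAlgHom.toRingHom)
  have hπ₀ : ∀ f ∈ idl F, π₀ f = 0 := by
    rintro _ ⟨h, rfl⟩
    show Ideal.Quotient.mk _ (MvPolynomial.map _ _) = 0
    rw [Unobs.map_lc]
    exact Ideal.Quotient.eq_zero_iff_mem.2 ⟨_, rfl⟩
  let π : Alg F →+* Alg (push μ F) := Ideal.Quotient.lift _ π₀ hπ₀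
  have hπs : Function.Surjective π := fun e => by
    obtain ⟨f, rfl⟩ := Ideal.Quotient.mk_surjective e
    obtain ⟨f, rfl⟩ := MvPolynomial.map_surjective _ hμ f
    exact ⟨Ideal.Quotient.mk _ f, rfl⟩
  have hπA : ∀ a, π (algebraMap A (Alg F) a) = algebraMap A' (Alg (push μ F)) (μ a) := fun a => by
    show Ideal.Quotient.mk _ (MvPolynomial.map _ (C a)) = _
    rw [map_C]
    rfl
  have hπk : RingHom.ker π ≤ (RingHom.ker μ.toAlgHom.toRingHom).map (algebraMap A (Alg F)) := fun e he => by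
    obtain ⟨f, rfl⟩ := Ideal.Quotient.mk_surjective e
    obtain ⟨h', hh'⟩ : MvPolynomial.map μ.toAlgHom.toRingHom f ∈ idl (push μ F) :=
      Ideal.Quotient.eq_zero_iff_mem.1 he
    obtain ⟨h, rfl⟩ := Finsupp.mapRange_surjective _ (map_zero _) (MvPolynomial.map_surjective _ hμ) h'
    have h0 : f - jF F h ∈ (RingHom.ker μ.toAlgHom.toRingHom).map (MvPolynomial.C : A →+* MvPolynomial ι A) := by
      rw [← MvPolynomial.ker_map]
      exact RingHom.mem_ker.2 (by rw [map_sub, Unobs.map_lc]; exact sub_eq_zero.2 hh'.symm)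
    have e1 : Ideal.Quotient.mk (idl F) f = Ideal.Quotient.mk (idl F) (f - jF F h) := by
      rw [map_sub, Ideal.Quotient.eq_zero_iff_mem.2 (show jF F h ∈ idl F from ⟨h, rfl⟩), sub_zero]
    rw [e1, show algebraMap A (Alg F) = (Ideal.Quotient.mk (idl F)).comp (MvPolynomial.C) from rfl, ← Ideal.map_map]
    exact Ideal.mem_map_of_mem _ h0
  have sq : IsPullback (Spec.map (CommRingCat.ofHom π)) (sch hF').f (sch hF).f (ArtFun.Art.specMap μ) := by
    have h1 : IsPushout p' (CommRingCat.ofHom (algebraMap A (Alg F)))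
        (CommRingCat.ofHom (algebraMap A' (Alg (push μ F)))) (CommRingCat.ofHom π) :=
      DefLib.isPushout_of_surjective _ _ _ _ (by ext a; exact (hπA a).symm) hμ hπs hπk
    exact (isPullback_SpecMap_of_isPushout _ _ _ _ h1).flip
  refine ⟨{ iso := sq.isoPullback.symm, hom_f := sq.isoPullback_inv_snd, i_hom := ?_ }⟩
  rw [Iso.symm_hom, Iso.comp_inv_eq]
  apply pullback.hom_ext
  · rw [ArtFun.DefSch.baseChange_i_fst, Category.assoc, IsPullback.isoPullback_hom_fst]
    show Spec.map (CommRingCat.ofHom hF.q) = Spec.map _ ≫ Spec.map _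
    rw [← Spec.map_comp]
    congr 1
    refine CommRingCat.hom_ext (RingHom.ext fun f => ?_)
    obtain ⟨f, rfl⟩ := Ideal.Quotient.mk_surjective f
    exact congrArg (algebraMap P.toExtension.Ring B₀) (rd_push μ f).symm
  · rw [Category.assoc, IsPullback.isoPullback_hom_snd]
    exact (ArtFun.DefSch.baseChange_i_f (sch hF) μ).trans (sch hF').i_f.symm

/-- A presentation of the restriction of a deformation lifts to a presentation of the deformation. -/
theorem exists_lift_presents {A₁ : ArtFun.Art k k} (μ : A₁ ⟶ A) (hμ : Function.Surjective μ)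
    {F : σ → MvPolynomial ι A} {z : (Def (k := k) (B₀ := B₀)).obj A} (hF : Presents P F z)
    (w : (Def (k := k) (B₀ := B₀)).obj A₁) (hw : (Def (k := k) (B₀ := B₀)).map μ w = z) :
    ∃ G, Presents P G w ∧ push μ G = F := by
  obtain ⟨G₀, hG₀⟩ := exists_presents (P := P) w
  have h' := presents_map μ hμ hG₀
  rw [hw] at h'
  obtain ⟨θ, hθ⟩ := exists_algEquiv_of_presents hF h'
  let mkG : MvPolynomial ι A₁ →ₐ[A₁] Alg G₀ := Ideal.Quotient.mkₐ _ _
  choose x₀ hx₀ using fun i => Ideal.Quotient.mk_surjective (θ (Ideal.Quotient.mk _ (X i)))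
  choose x hx using fun i => MvPolynomial.map_surjective μ.toAlgHom.toRingHom hμ (x₀ i)
  let aev : MvPolynomial ι A₁ →ₐ[A₁] Alg G₀ := MvPolynomial.aeval fun i => mkG (x i)
  haveI := hG₀.1.free
  -- the evaluation lies over the isomorphism
  let π₀ : MvPolynomial ι A₁ →+* Alg (push μ G₀) :=
    (Ideal.Quotient.mk _).comp (MvPolynomial.map μ.toAlgHom.toRingHom)
  have hπ₀ : ∀ f ∈ idl G₀, π₀ f = 0 := by
    rintro _ ⟨h, rfl⟩
    show Ideal.Quotient.mk _ (MvPolynomial.map _ _) = 0
    rw [Unobs.map_lc]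
    exact Ideal.Quotient.eq_zero_iff_mem.2 ⟨_, rfl⟩
  let π : Alg G₀ →+* Alg (push μ G₀) := Ideal.Quotient.lift _ π₀ hπ₀
  have hcomm : ∀ f, π (aev f) = θ (Ideal.Quotient.mk _ (MvPolynomial.map μ.toAlgHom.toRingHom f)) := by
    have e : π.comp aev.toRingHom =
        (θ : Alg F →+* Alg (push μ G₀)).comp ((Ideal.Quotient.mk _).comp (MvPolynomial.map μ.toAlgHom.toRingHom)) := by
      refine MvPolynomial.ringHom_ext (fun a => ?_) (fun i => ?_)
      · show π (aev (C a)) = θ (Ideal.Quotient.mk _ (MvPolynomial.map _ (C a)))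
        rw [map_C, show aev (C a) = Ideal.Quotient.mk _ (C a) from aev.commutes a]
        show Ideal.Quotient.mk _ (MvPolynomial.map _ (C a)) = θ (algebraMap A (Alg F) (μ a))
        rw [map_C, θ.commutes]
        rfl
      · show π (aev (X i)) = θ (Ideal.Quotient.mk _ (MvPolynomial.map _ (X i)))
        rw [map_X, show aev (X i) = Ideal.Quotient.mk _ (x i) from aeval_X _ i]
        show Ideal.Quotient.mk _ (MvPolynomial.map _ (x i)) = _
        rw [hx, hx₀]
    exact fun f => congr($e f)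
  have hq : ∀ f, hG₀.1.q (aev f) = algebraMap P.toExtension.Ring B₀ (rd P A₁ f) := fun f => by
    have h1 : ∀ e, h'.1.q (π e) = hG₀.1.q e := fun e => by
      obtain ⟨g, rfl⟩ := Ideal.Quotient.mk_surjective e
      exact congrArg (algebraMap P.toExtension.Ring B₀) (rd_push μ g)
    rw [← h1, hcomm, hθ, IsPres.q_mk, rd_push]
  have hs := aev_surjective hG₀.1.q aev hq hG₀.1.q_ker
  have hker : ∀ s, ∃ f, aev f = 0 ∧ MvPolynomial.map μ.toAlgHom.toRingHom f = F s := fun s => by
    obtain ⟨f₀, hf₀⟩ := MvPolynomial.map_surjective μ.toAlgHom.toRingHom hμ (F s)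
    obtain ⟨g, hg⟩ := Ideal.Quotient.mk_surjective (aev f₀)
    obtain ⟨l, hl⟩ : MvPolynomial.map μ.toAlgHom.toRingHom g ∈ idl (push μ G₀) := by
      rw [← Ideal.Quotient.eq_zero_iff_mem]
      show π (Ideal.Quotient.mk _ g) = 0
      rw [hg, hcomm, hf₀, Ideal.Quotient.eq_zero_iff_mem.2 (self_mem_idl F s), map_zero]
    obtain ⟨l, rfl⟩ := Finsupp.mapRange_surjective _ (map_zero _) (MvPolynomial.map_surjective _ hμ) l
    have h0 : g - jF G₀ l ∈ RingHom.ker μ.toAlgHom.toRingHom • (⊤ : Submodule A₁ (MvPolynomial ι A₁)) := by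
      rw [Ideal.smul_top_eq_map]
      show g - jF G₀ l ∈ (RingHom.ker μ.toAlgHom.toRingHom).map (MvPolynomial.C : A₁ →+* MvPolynomial ι A₁)
      rw [← MvPolynomial.ker_map]
      exact RingHom.mem_ker.2 (by rw [map_sub, Unobs.map_lc]; exact sub_eq_zero.2 hl.symm)
    have h1 : aev f₀ ∈ Submodule.map aev.toLinearMap (RingHom.ker μ.toAlgHom.toRingHom • ⊤) := by
      rw [Submodule.map_smul'', Submodule.map_top, LinearMap.range_eq_top.2 hs, ← LinearMap.range_eq_top.2
        (show Function.Surjective mkG.toLinearMap from Ideal.Quotient.mk_surjective), ← Submodule.map_top,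
        ← Submodule.map_smul'']
      refine ⟨_, h0, ?_⟩
      show Ideal.Quotient.mk _ (g - jF G₀ l) = _
      rw [map_sub, hg, Ideal.Quotient.eq_zero_iff_mem.2 (show jF G₀ l ∈ idl G₀ from ⟨l, rfl⟩), sub_zero]
    obtain ⟨g', hg', hge⟩ := h1
    refine ⟨f₀ - g', by rw [map_sub]; exact sub_eq_zero.2 hge.symm, ?_⟩
    rw [map_sub, hf₀, sub_eq_self, ← RingHom.mem_ker, MvPolynomial.ker_map]
    rw [Ideal.smul_top_eq_map] at hg'
    exact hg'
  choose G hGK hGr using hker
  obtain ⟨hG, τ, -, hτ⟩ := exists_algEquiv hG₀.1.q aev hq hG₀.1.q_ker G hGK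
    (fun s => by rw [← rd_push μ, hGr]; exact hF.1.red_eq s)
  exact ⟨G, presents_of_algEquiv hG₀ hG τ.symm (fun e => by rw [← hτ, τ.apply_symm_apply]), funext hGr⟩

end DefLib.AffPres
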